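/-
Ward's lemma: the representation theoretic core of the Fitting height bound for a fixed-point-free
action of an elementary abelian group of order `p ^ 2`.
-/
import Cfsg.Agent.LieFpf.Eigen
import Cfsg.Agent.Coprime.Action
import Cfsg.Agent.Coprime.Sylow
import Cfsg.Agent.Coprime.Generation

set_option linter.unusedSectionVars false

namespace Cfsg.Lib.Ward

open Subgroup Cfsg.Lib.LieFpf Cfsg.Lib.Coprime
open scoped TensorProduct commutatorElement

variable {X : Type*} [Group X] {S : Type*} [CommRing S] {M : Type*} [AddCommGroup M] [Module S M]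
  {q : ℕ} [Fact q.Prime]

/-- Joint eigenvectors of the elements of `Z`. -/
def IsEigen (ρ : X →* Module.End S M) (ζ : S) (Z : Subgroup X) (χ : X → ZMod q) (w : M) : Prop :=
  ∀ z ∈ Z, ρ z w = chi ζ (χ z) • w

section basics

variable {ρ : X →* Module.End S M} {ζ : S} {Z : Subgroup X} {χ : X → ZMod q}

theorem rho_mul (ρ : X →* Module.End S M) (x y : X) (w : M) : ρ (x * y) w = ρ x (ρ y w) := by
  rw [map_mul, Module.End.mul_apply]

theorem rho_inv_cancel (ρ : X →* Module.End S M) (x : X) (w : M) : ρ x⁻¹ (ρ x w) = w := by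
  rw [← rho_mul, inv_mul_cancel, map_one, Module.End.one_apply]

variable (hζ : ζ ^ q = 1) (hsum : ∑ i ∈ Finset.range q, ζ ^ i = 0) {m : ℕ} (hm : ∀ w : M, (m * q) • w = w)

include hζ hsum hm

theorem eq_zero_of_chi_smul {i j : ZMod q} (hij : i ≠ j) {w : M} (h : chi ζ i • w = chi ζ j • w) : w = 0 := by
  set k := i - j with hk
  have hk0 : k ≠ 0 := sub_ne_zero.2 hij
  have h1 : chi ζ k • w = w := by
    have := congrArg (fun v => chi ζ (-j) • v) h
    simp only [smul_smul, ← chi_add hζ, neg_add_cancel] at this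
    rwa [neg_add_eq_sub, ← hk, show chi ζ (0 : ZMod q) = 1 by simp [chi], one_smul] at this
  have hnat : ∀ n : ℕ, chi ζ ((n : ZMod q) * k) • w = w := by
    intro n
    induction n with
    | zero => simp [chi]
    | succ n ih => rw [Nat.cast_succ, add_mul, one_mul, add_comm, chi_add hζ, mul_smul, ih, h1]
  have h2 : ∀ t : ZMod q, chi ζ (t * k) • w = w := fun t => by simpa using hnat t.val
  have h3 : q • w = 0 := by
    have hs := congrArg (fun a : S => a • w) (sum_chi_mul hsum hk0)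
    simpa [Finset.sum_smul, h2, ZMod.card] using hs
  rw [← hm w, mul_smul, h3, smul_zero]

theorem eq_zero_of_sum {ι : Type*} (s : Finset ι) (χs : ι → X → ZMod q) :
    ∀ (w : ι → M) (w₀ : M), IsEigen ρ ζ Z χ w₀ → (∀ i ∈ s, IsEigen ρ ζ Z (χs i) (w i)) →
      (∀ i ∈ s, ∃ z ∈ Z, χs i z ≠ χ z) → w₀ + ∑ i ∈ s, w i = 0 → w₀ = 0 := by
  classical
  induction s using Finset.induction_on with
  | empty => intro w w₀ _ _ _ h; simpa using h
  | @insert j s hj ih =>
    intro w w₀ h₀ hw hne hsum0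
    obtain ⟨z, hz, hzne⟩ := hne j (Finset.mem_insert_self _ _)
    refine eq_zero_of_chi_smul hζ hsum hm hzne.symm ?_
    rw [← sub_eq_zero, ← sub_smul]
    refine ih (fun i => (chi ζ (χs i z) - chi ζ (χs j z)) • w i) _ ?_ ?_
      (fun i hi => hne i (Finset.mem_insert_of_mem hi)) ?_
    · intro y hy; rw [map_smul, h₀ y hy, smul_comm]
    · intro i hi y hy; rw [map_smul, hw i (Finset.mem_insert_of_mem hi) y hy, smul_comm]
    · have h1 := congrArg (fun v => ρ z v - chi ζ (χs j z) • v) hsum0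
      simp only [map_add, map_sum, map_zero, smul_zero, sub_zero, smul_add, Finset.smul_sum,
        Finset.sum_insert hj] at h1
      rw [h₀ z hz, hw j (Finset.mem_insert_self _ _) z hz,
        Finset.sum_congr rfl fun i hi => hw i (Finset.mem_insert_of_mem hi) z hz] at h1
      simp only [sub_smul, Finset.sum_sub_distrib]
      rw [← h1]
      abel

theorem eigen_split {z : X} (hz : z ^ q = 1) (v : M) :
    ∃ e : ZMod q → M, ∑ i, e i = v ∧ (∀ i, ρ z (e i) = chi ζ i • e i) ∧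
      ∀ y : X, Commute y z → ∀ c : S, ρ y v = c • v → ∀ i, ρ y (e i) = c • e i := by
  refine ⟨fun i => m • ∑ k : ZMod q, chi ζ (-(i * k)) • ρ (z ^ k.val) v, ?_, ?_, ?_⟩
  · simp only [← Finset.smul_sum]
    rw [Finset.sum_comm]
    simp only [← Finset.sum_smul]
    rw [Finset.sum_eq_single (0 : ZMod q) (fun k _ hk => by
        simp only [← mul_neg]
        rw [sum_chi_mul hsum (neg_ne_zero.2 hk), zero_smul]) (fun h => absurd (Finset.mem_univ _) h)]
    simp only [mul_zero, neg_zero, chi, ZMod.val_zero, pow_zero, Finset.sum_const, Finset.card_univ, ZMod.card,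
      map_one, Module.End.one_apply]
    rw [smul_assoc, one_smul, smul_smul]
    exact hm v
  · intro i
    rw [map_nsmul, map_sum, smul_comm (chi ζ i) m, Finset.smul_sum (r := chi ζ i)]
    congr 1
    refine Fintype.sum_equiv (Equiv.addRight (1 : ZMod q)) _ _ fun k => ?_
    simp only [map_smul, Equiv.coe_addRight]
    rw [smul_smul, ← chi_add hζ, ← rho_mul, ← pow_succ', ZMod.val_add, ZMod.val_one,
      ← pow_eq_pow_mod _ hz]
    congr 2
    ring
  · intro y hy c hc i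
    rw [map_nsmul, map_sum, smul_comm c m, Finset.smul_sum (r := c)]
    congr 1
    refine Finset.sum_congr rfl fun k _ => ?_
    rw [map_smul, ← rho_mul, (hy.pow_right k.val).eq, rho_mul, hc, map_smul, smul_comm]

theorem exists_eigen (hcomm : ∀ x ∈ Z, ∀ y ∈ Z, Commute x y) (hexp : ∀ z ∈ Z, z ^ q = 1) [Finite X] {z₀ : X}
    (hz₀ : z₀ ∈ Z) {v : M} (hv : ρ z₀ v ≠ v) : ∃ (χ : X → ZMod q) (w : M), w ≠ 0 ∧ IsEigen ρ ζ Z χ w ∧ χ z₀ ≠ 0 := by
  classical
  have key : ∀ l : List X, (∀ z ∈ l, z ∈ Z) → ∃ (w : M) (i₀ : ZMod q), w ≠ 0 ∧ i₀ ≠ 0 ∧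
      ρ z₀ w = chi ζ i₀ • w ∧ ∀ z ∈ l, ∃ i : ZMod q, ρ z w = chi ζ i • w := by
    intro l hl
    induction l with
    | nil =>
      obtain ⟨e, he, heig, -⟩ := eigen_split hζ hsum hm (ρ := ρ) (hexp z₀ hz₀) v
      by_contra hcon
      push Not at hcon
      refine hv ?_
      rw [← he, map_sum]
      refine Finset.sum_congr rfl fun i _ => ?_
      by_cases hi : i = 0
      · subst hi; rw [heig]; simp [chi]
      by_cases hw : e i = 0
      · rw [hw, map_zero]
      · obtain ⟨z, hz, -⟩ := hcon (e i) i hw hi (heig i)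
        exact absurd hz List.not_mem_nil
    | cons z l ih =>
      obtain ⟨w, i₀, hw, hi₀, h₀, hl'⟩ := ih fun y hy => hl y (List.mem_cons_of_mem _ hy)
      have hz := hl z List.mem_cons_self
      obtain ⟨e, he, heig, hpres⟩ := eigen_split hζ hsum hm (ρ := ρ) (hexp z hz) w
      obtain ⟨i, hi⟩ : ∃ i, e i ≠ 0 := by
        by_contra hcon
        push Not at hcon
        exact hw (by rw [← he]; exact Finset.sum_eq_zero fun i _ => hcon i)
      refine ⟨e i, i₀, hi, hi₀, hpres z₀ (hcomm z₀ hz₀ z hz) _ h₀ i, fun y hy => ?_⟩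
      rcases List.mem_cons.1 hy with rfl | hy
      · exact ⟨i, heig i⟩
      · obtain ⟨j, hj⟩ := hl' y hy
        exact ⟨j, hpres y (hcomm y (hl y (List.mem_cons_of_mem _ ‹_›)) z hz) _ hj i⟩
  obtain ⟨w, i₀, hw, hi₀, h₀, hl⟩ := key (Set.toFinite (Z : Set X)).toFinset.toList (by simp)
  have hex : ∀ z : X, ∃ i : ZMod q, z ∈ Z → ρ z w = chi ζ i • w := by
    intro z
    by_cases hz : z ∈ Z
    · obtain ⟨i, hi⟩ := hl z (by simpa using hz)
      exact ⟨i, fun _ => hi⟩
    · exact ⟨0, fun h => absurd h hz⟩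
  choose χ hχ using hex
  refine ⟨χ, w, hw, hχ, fun h => ?_⟩
  refine hw (eq_zero_of_chi_smul hζ hsum hm hi₀ ?_)
  rw [← h₀, hχ z₀ hz₀, h]

theorem eigen_add {w : M} (h : IsEigen ρ ζ Z χ w) (hw : w ≠ 0) {x y : X} (hx : x ∈ Z) (hy : y ∈ Z) :
    χ (x * y) = χ x + χ y := by
  by_contra hne
  refine hw (eq_zero_of_chi_smul hζ hsum hm hne ?_)
  rw [← h _ (mul_mem hx hy), rho_mul, h y hy, map_smul, h x hx, smul_smul, ← chi_add hζ, add_comm]

end basics

/-- `c` fixes the eigenvalue function on `Z`. -/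
def Fixes (Z : Subgroup X) (χ : X → ZMod q) (c : X) : Prop := ∀ z ∈ Z, χ (c⁻¹ * z * c) = χ z

/-- A subgroup of an abelian group of order `p ^ 2` with two independent elements is everything. -/
theorem le_of_two [Finite X] {p : ℕ} [Fact p.Prime] {A B : Subgroup X} (hBA : B ≤ A) (hA : ∀ a ∈ A, a ^ p = 1)
    (hAcard : Nat.card A = p ^ 2) {g c : X} (hg : g ∈ B) (hg1 : g ≠ 1) (hc : c ∈ B) (hcg : c ∉ zpowers g) :
    A ≤ B := by
  have hp := (Fact.out : p.Prime)
  have h1 : Nat.card (zpowers g) = p := by rw [Nat.card_zpowers, orderOf_eq_prime (hA g (hBA hg)) hg1]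
  have h2 : p ∣ Nat.card B := h1 ▸ Subgroup.card_dvd_of_le (zpowers_le.2 hg)
  have h3 : Nat.card B ≠ p := fun h => by
    have e : zpowers g = B := Subgroup.eq_of_le_of_card_ge (zpowers_le.2 hg) (by rw [h1, h])
    exact hcg (e ▸ hc)
  obtain ⟨k, hk, hk'⟩ := (Nat.dvd_prime_pow hp).1 (hAcard ▸ Subgroup.card_dvd_of_le hBA)
  interval_cases k
  · rw [pow_zero] at hk'
    exact absurd (Nat.le_of_dvd (by omega) (hk' ▸ h2)) (by have := hp.one_lt; omega)
  · exact absurd (by rw [hk', pow_one]) h3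
  · exact (Subgroup.eq_of_le_of_card_ge hBA (by rw [hk', hAcard])).ge

/-- The core statement. -/
theorem core [Finite X] {ζ : S} (hζ : ζ ^ q = 1) (hsum : ∑ i ∈ Finset.range q, ζ ^ i = 0) {m : ℕ}
    (hm : ∀ w : M, (m * q) • w = w) (ρ : X →* Module.End S M) {p : ℕ} [Fact p.Prime] (hpq : p ≠ q)
    (A Q R : Subgroup X) [IsMulCommutative A] (hA : ∀ a ∈ A, a ^ p = 1) (hAcard : Nat.card A = p ^ 2)
    (hQ : IsPGroup q Q) (hAQ : A ≤ normalizer (Q : Set X)) (hAR : A ≤ normalizer (R : Set X))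
    (hRQ : R ≤ normalizer (Q : Set X)) (hcop : (Nat.card R).Coprime p) (hcopRQ : (Nat.card R).Coprime (Nat.card Q))
    (hCQ : Q ⊓ centralizer (A : Set X) = ⊥) (hCR : R ⊓ centralizer (A : Set X) = ⊥)
    (hfaith : ∀ x ∈ Q, ρ x = 1 → x = 1)
    (hfix : ∀ c ∈ A, c ≠ 1 → ∀ z ∈ Q, Commute c z → ∀ v : M,
      ρ z (∑ i ∈ Finset.range p, ρ (c ^ i) v) = ∑ i ∈ Finset.range p, ρ (c ^ i) v)
    {a : X} (ha : a ∈ A) (ha1 : a ≠ 1) (hRa : R ≤ centralizer {a}) (hRQa : Q ⊓ centralizer {a} ≤ centralizer (R : Set X))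
    (hmin : ∀ T < Q, A ≤ normalizer (T : Set X) → R ≤ normalizer (T : Set X) → T ≤ centralizer (R : Set X)) :
    Q ≤ centralizer (R : Set X) := by
  classical
  by_contra hne
  have hp := (Fact.out : p.Prime)
  have hAc : ∀ x ∈ A, ∀ y ∈ A, x * y = y * x := fun x hx y hy => setLike_mul_comm hx hy
  haveI := hQ.isNilpotent
  have hQne : Q ≠ ⊥ := fun h => hne (by rw [h]; exact bot_le)
  have hQA : (Nat.card A).Coprime (Nat.card Q) := by
    obtain ⟨k, hk⟩ := IsPGroup.iff_card.1 hQ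
    rw [hk, hAcard]
    exact Nat.Coprime.pow 2 k ((Nat.coprime_primes hp (Fact.out : q.Prime)).2 hpq)
  -- the central elementary abelian subgroup
  let Z : Subgroup X :=
    { carrier := {z | z ∈ Q ∧ z ^ q = 1 ∧ ∀ x ∈ Q, Commute z x}
      one_mem' := ⟨one_mem _, one_pow _, fun x _ => Commute.one_left x⟩
      mul_mem' := fun hx hy => ⟨mul_mem hx.1 hy.1, by rw [(hx.2.2 _ hy.1).mul_pow, hx.2.1, hy.2.1, one_mul],
        fun x h => (hx.2.2 x h).mul_left (hy.2.2 x h)⟩
      inv_mem' := fun hx => ⟨inv_mem hx.1, by rw [inv_pow, hx.2.1, inv_one], fun x h => (hx.2.2 x h).inv_left⟩ }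
  have hZconj : ∀ g ∈ normalizer (Q : Set X), ∀ z ∈ Z, g * z * g⁻¹ ∈ Z := by
    intro g hg z hz
    refine ⟨(mem_normalizer_iff.1 hg z).1 hz.1, by rw [conj_pow, hz.2.1]; group, fun x hx => ?_⟩
    have hx' : g⁻¹ * x * g ∈ Q := (mem_normalizer_iff''.1 hg x).1 hx
    have h : z * (g⁻¹ * x * g) = g⁻¹ * x * g * z := hz.2.2 _ hx'
    show g * z * g⁻¹ * x = x * (g * z * g⁻¹)
    calc g * z * g⁻¹ * x = g * (z * (g⁻¹ * x * g)) * g⁻¹ := by group
      _ = g * (g⁻¹ * x * g * z) * g⁻¹ := by rw [h]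
      _ = x * (g * z * g⁻¹) := by group
  have hZconj' : ∀ g ∈ normalizer (Q : Set X), ∀ z ∈ Z, g⁻¹ * z * g ∈ Z := by
    intro g hg z hz
    simpa using hZconj g⁻¹ (inv_mem hg) z hz
  obtain ⟨z₀, hz₀, hz₀1⟩ : ∃ z ∈ Z, z ≠ 1 := by
    haveI : Nontrivial Q := (nontrivial_iff_ne_bot Q).2 hQne
    haveI := hQ.center_nontrivial
    obtain ⟨⟨x, hx⟩, hxc⟩ := exists_prime_orderOf_dvd_card' (G := Subgroup.center Q) q (by
      obtain ⟨k, hk, hk'⟩ := (hQ.to_subgroup (Subgroup.center Q)).nontrivial_iff_card.1 ‹_›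
      rw [hk']; exact dvd_pow_self q hk.ne')
    have hxq := hxc ▸ pow_orderOf_eq_one (⟨x, hx⟩ : Subgroup.center Q)
    refine ⟨x, ⟨x.2, congrArg (fun t : Subgroup.center Q => ((t : Q) : X)) hxq, fun y hy => ?_⟩, fun h => ?_⟩
    · exact (congrArg Subtype.val (Subgroup.mem_center_iff.1 hx ⟨y, hy⟩)).symm
    · have : (⟨x, hx⟩ : Subgroup.center Q) = 1 := Subtype.ext (Subtype.ext h)
      rw [this, orderOf_one] at hxc
      exact (Fact.out : q.Prime).one_lt.ne hxc
  obtain ⟨v, hv⟩ : ∃ v, ρ z₀ v ≠ v := by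
    by_contra hcon
    push Not at hcon
    exact hz₀1 (hfaith z₀ hz₀.1 (LinearMap.ext hcon))
  obtain ⟨χ, w, hw, hχ, hχ0⟩ := exists_eigen hζ hsum hm (Z := Z) (fun x hx y hy => hx.2.2 y hy.1)
    (fun z hz => hz.2.1) hz₀ hv
  have hadd : ∀ {x y}, x ∈ Z → y ∈ Z → χ (x * y) = χ x + χ y := fun hx hy => eigen_add hζ hsum hm hχ hw hx hy
  have hχone : χ 1 = 0 := by
    have := hadd (one_mem Z) (one_mem Z)
    rw [one_mul] at this
    exact left_eq_add.1 this
  -- translates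
  let tr : X → X → ZMod q := fun g z => χ (g⁻¹ * z * g)
  have htr : ∀ g ∈ normalizer (Q : Set X), ∀ u, IsEigen ρ ζ Z χ u → IsEigen ρ ζ Z (tr g) (ρ g u) := by
    intro g hg u hu z hz
    rw [← rho_mul, show z * g = g * (g⁻¹ * z * g) by group, rho_mul, hu _ (hZconj' g hg z hz), map_smul]
  -- a translate moved by `c` is fixed by `C_Q(c)`
  have hmoved : ∀ c ∈ A, ∀ (ψ : X → ZMod q) (u : M), IsEigen ρ ζ Z ψ u → ¬ Fixes Z ψ c →
      ∀ x ∈ Q, Commute c x → ρ x u = u := by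
    intro c hc ψ u hu hnf x hx hcx
    have hc1 : c ≠ 1 := by rintro rfl; exact hnf fun z _ => by simp
    have hcp : orderOf c = p := orderOf_eq_prime (hA c hc) hc1
    have hu' : IsEigen ρ ζ Z ψ (ρ x u - u) := by
      intro z hz
      rw [map_sub, ← rho_mul, (hz.2.2 x hx).eq, rho_mul, hu z hz, map_smul, smul_sub]
    have h0 : ∑ i ∈ Finset.range p, ρ (c ^ i) (ρ x u - u) = 0 := by
      simp only [map_sub, Finset.sum_sub_distrib, ← rho_mul, (hcx.pow_left _).eq]
      simp only [rho_mul, ← map_sum]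
      rw [hfix c hc hc1 x hx hcx, sub_self]
    rw [← sub_eq_zero]
    rw [← Finset.add_sum_erase _ _ (Finset.mem_range.2 hp.pos), pow_zero, map_one, Module.End.one_apply] at h0
    refine eq_zero_of_sum hζ hsum hm _ (fun i z => ψ ((c ^ i)⁻¹ * z * c ^ i)) _ _ hu' ?_ ?_ h0
    · intro i _ z hz
      rw [← rho_mul, show z * c ^ i = c ^ i * ((c ^ i)⁻¹ * z * c ^ i) by group, rho_mul,
        hu' _ (hZconj' _ (hAQ (pow_mem hc i)) z hz), map_smul]
    · intro i hi
      by_contra hcon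
      push Not at hcon
      obtain ⟨hi0, hip⟩ := Finset.mem_erase.1 hi
      rw [Finset.mem_range] at hip
      have hco : i.Coprime (orderOf c) := by
        rw [hcp]
        exact (Nat.Coprime.symm (hp.coprime_iff_not_dvd.2 fun hd => absurd (Nat.le_of_dvd (by omega) hd) (by omega)))
      obtain ⟨k, hk⟩ := exists_pow_eq_self_of_coprime hco
      have hpow : ∀ k : ℕ, ∀ z ∈ Z, ψ (((c ^ i) ^ k)⁻¹ * z * (c ^ i) ^ k) = ψ z := by
        intro k
        induction k with
        | zero => simp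
        | succ k ih =>
          intro z hz
          have hz' := hZconj' _ (hAQ (pow_mem hc i)) z hz
          conv_rhs => rw [← hcon z hz, ← ih _ hz']
          rw [pow_succ', mul_inv_rev]
          simp only [mul_assoc]
      exact hnf fun z hz => by rw [← hk]; exact hpow k z hz
  -- the stabiliser
  let St : Subgroup X :=
    { carrier := {c | c ∈ A ∧ Fixes Z χ c}
      one_mem' := ⟨one_mem _, fun z _ => by simp⟩
      mul_mem' := fun {x y} hx hy => ⟨mul_mem hx.1 hy.1, fun z hz => by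
        have h := hy.2 _ (hZconj' x (hAQ hx.1) z hz)
        rw [show (x * y)⁻¹ * z * (x * y) = y⁻¹ * (x⁻¹ * z * x) * y by group, h, hx.2 z hz]⟩
      inv_mem' := fun {x} hx => ⟨inv_mem hx.1, fun z hz => by
        have h := hx.2 _ (hZconj x (hAQ hx.1) z hz)
        rw [show x⁻¹ * (x * z * x⁻¹) * x = z by group] at h
        rw [inv_inv, h]⟩ }
  have hStA : St ≤ A := fun c hc => hc.1
  -- nothing but zero is fixed by all of `A`
  have hall : ∀ g ∈ normalizer (Q : Set X), ¬ ∀ c ∈ A, Fixes Z (tr g) c := by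
    intro g hg hfx
    have hadd' : ∀ {x y}, x ∈ Z → y ∈ Z → tr g (x * y) = tr g x + tr g y := by
      intro x y hx hy
      show χ _ = χ _ + χ _
      rw [← hadd (hZconj' g hg x hx) (hZconj' g hg y hy)]
      congr 1; group
    have hone : tr g 1 = 0 := by show χ _ = 0; rw [show g⁻¹ * 1 * g = 1 by group, hχone]
    haveI : IsMulCommutative Z := ⟨⟨fun x y => Subtype.ext (x.2.2.2 y y.2.1)⟩⟩
    have hAZ : A ≤ normalizer (Z : Set X) := fun c hc =>
      mem_normalizer_of_conj_mem (hZconj c (hAQ hc)) (hZconj' c (hAQ hc))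
    have hZQ : Z ≤ Q := fun z hz => hz.1
    obtain ⟨-, hdec⟩ := abelian_coprime_decomp hAZ (coprime_of_le hZQ hQA)
    rw [le_bot_iff.1 ((inf_le_inf_right _ hZQ).trans hCQ.le), bot_sup_eq] at hdec
    let K : Subgroup X :=
      { carrier := {z | z ∈ Z ∧ tr g z = 0}
        one_mem' := ⟨one_mem _, hone⟩
        mul_mem' := fun hx hy => ⟨mul_mem hx.1 hy.1, by rw [hadd' hx.1 hy.1, hx.2, hy.2, add_zero]⟩
        inv_mem' := fun {x} hx => ⟨inv_mem hx.1, by
          have h := hadd' (inv_mem hx.1) hx.1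
          rw [inv_mul_cancel, hone, hx.2, add_zero] at h
          exact h.symm⟩ }
    have hK : ⁅Z, A⁆ ≤ K := by
      rw [commutator_le]
      intro z hz c hc
      have hz' := hZconj c (hAQ hc) z⁻¹ (inv_mem hz)
      have e : ⁅z, c⁆ = z * (c * z⁻¹ * c⁻¹) := by rw [commutatorElement_def]; group
      refine ⟨e ▸ mul_mem hz hz', ?_⟩
      rw [e, hadd' hz hz', ← hfx c hc _ hz', show c⁻¹ * (c * z⁻¹ * c⁻¹) * c = z⁻¹ by group,
        ← hadd' hz (inv_mem hz), mul_inv_cancel, hone]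
    have hmem : g * z₀ * g⁻¹ ∈ K := hK (hdec.symm ▸ hZconj g hg z₀ hz₀)
    refine hχ0 ?_
    have h := hmem.2
    rwa [show tr g (g * z₀ * g⁻¹) = χ z₀ from congrArg χ (by group)] at h
  -- `K`
  let K : Subgroup X :=
    { carrier := {x | x ∈ Q ∧ ∀ u, IsEigen ρ ζ Z χ u → ρ x u = u}
      one_mem' := ⟨one_mem _, fun u _ => by rw [map_one, Module.End.one_apply]⟩
      mul_mem' := fun hx hy => ⟨mul_mem hx.1 hy.1, fun u hu => by rw [rho_mul, hy.2 u hu, hx.2 u hu]⟩
      inv_mem' := fun {x} hx => ⟨inv_mem hx.1, fun u hu => by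
        conv_lhs => rw [← hx.2 u hu]
        exact rho_inv_cancel ρ x u⟩ }
  have hKQ : ¬ Q ≤ K := by
    intro h
    refine hw (eq_zero_of_chi_smul hζ hsum hm hχ0 ?_)
    rw [← hχ z₀ hz₀, (h hz₀.1).2 w hχ]
    simp [chi]
  -- generation
  have hgen : ∀ T : Subgroup X, (∀ c ∈ A, c ≠ 1 → Q ⊓ centralizer {c} ≤ T) → Q ≤ T := by
    intro T hT
    have hnc : ¬ IsCyclic A := by
      intro hc
      obtain ⟨g, hg⟩ := hc.exists_generator
      have h1 : orderOf g = p ^ 2 := by rw [orderOf_eq_card_of_forall_mem_zpowers hg, hAcard]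
      have h2 : orderOf g ∣ p := orderOf_dvd_of_pow_eq_one (Subtype.ext (hA g g.2))
      rw [h1] at h2
      have := Nat.le_of_dvd hp.pos h2
      have := hp.one_lt
      nlinarith
    rw [← centralizerJoin_eq hnc hAQ hQA]
    exact iSup₂_le fun c hc => hT c hc.1 hc.2
  obtain ⟨b, hb, hb1⟩ : ∃ b ∈ St, b ≠ 1 := by
    by_contra hcon
    push Not at hcon
    refine hKQ (hgen K fun c hc hc1 x hx => ⟨hx.1, fun u hu => ?_⟩)
    exact hmoved c hc χ u hu (fun h => hc1 (hcon c ⟨hc, h⟩)) x hx.1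
      ((mem_centralizer_iff.1 hx.2 c (Set.mem_singleton c)))
  have hStne : ¬ A ≤ St := fun h => hall 1 (one_mem _) fun c hc z hz => by
    show χ _ = χ _
    simpa using (h hc).2 z hz
  have hline : ∀ c ∈ St, c ≠ 1 → zpowers c = St := by
    intro c hc hc1
    refine Subgroup.eq_of_le_of_card_ge (zpowers_le.2 hc) ?_
    rw [Nat.card_zpowers, orderOf_eq_prime (hA c hc.1) hc1]
    have hd : Nat.card St ∣ p ^ 2 := hAcard ▸ Subgroup.card_dvd_of_le hStA
    obtain ⟨k, hk, hk'⟩ := (Nat.dvd_prime_pow hp).1 hd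
    rw [hk']
    interval_cases k
    · simpa using hp.one_lt.le
    · simp
    · exact absurd (Subgroup.eq_of_le_of_card_ge hStA (by rw [hk', hAcard])).ge hStne
  -- translates by `R` are moved outside the stabiliser
  have hR : ∀ r ∈ R, ∀ c ∈ A, c ∉ St → ¬ Fixes Z (tr r) c := by
    intro r hr c hc hcS hfx
    have hra : ∀ j : ℕ, Commute (a ^ j) r := fun j =>
      Commute.pow_left (mem_centralizer_iff.1 (hRa hr) a (Set.mem_singleton a)) j
    by_cases haS : a ∈ St
    · -- `a` and `c` fix the translate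
      refine hall r (hRQ hr) ?_
      let F : Subgroup X :=
        { carrier := {x | x ∈ A ∧ Fixes Z (tr r) x}
          one_mem' := ⟨one_mem _, fun z _ => by simp⟩
          mul_mem' := fun {x y} hx hy => ⟨mul_mem hx.1 hy.1, fun z hz => by
            have h := hy.2 _ (hZconj' x (hAQ hx.1) z hz)
            rw [show (x * y)⁻¹ * z * (x * y) = y⁻¹ * (x⁻¹ * z * x) * y by group, h, hx.2 z hz]⟩
          inv_mem' := fun {x} hx => ⟨inv_mem hx.1, fun z hz => by
            have h := hx.2 _ (hZconj x (hAQ hx.1) z hz)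
            rw [show x⁻¹ * (x * z * x⁻¹) * x = z by group] at h
            rw [inv_inv, h]⟩ }
      have haF : a ∈ F := by
        refine ⟨ha, fun z hz => ?_⟩
        show χ _ = χ _
        have har : Commute a r := by simpa using hra 1
        rw [← haS.2 _ (hZconj' r (hRQ hr) z hz)]
        congr 1
        have e : a⁻¹ * r⁻¹ = r⁻¹ * a⁻¹ := (har.inv_inv).eq
        calc r⁻¹ * (a⁻¹ * z * a) * r = (r⁻¹ * a⁻¹) * z * (a * r) := by group
          _ = (a⁻¹ * r⁻¹) * z * (r * a) := by rw [e, har.eq]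
          _ = _ := by group
      have hFA : A ≤ F := le_of_two (fun x hx => hx.1) hA hAcard haF ha1 ⟨hc, hfx⟩
        (fun h => hcS ((hline a haS ha1) ▸ h))
      exact fun x hx => (hFA hx).2
    · -- decompose `c = b' * a ^ j`
      obtain ⟨b', hb', j, rfl⟩ : ∃ b' ∈ St, ∃ j : ℕ, c = b' * a ^ j := by
        have hsup : St ⊔ zpowers a = A := le_antisymm (sup_le hStA (zpowers_le.2 ha))
          (le_of_two (sup_le hStA (zpowers_le.2 ha)) hA hAcard (mem_sup_left hb) hb1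
            (mem_sup_right (mem_zpowers a)) (fun h => haS ((hline b hb hb1) ▸ h)))
        have hn : zpowers a ≤ normalizer (St : Set X) := fun x hx => mem_normalizer_of_conj_mem
          (fun y hy => by rwa [hAc x ((zpowers_le.2 ha) hx) y hy.1, mul_inv_cancel_right])
          (fun y hy => by rwa [mul_assoc, hAc y hy.1 x ((zpowers_le.2 ha) hx), inv_mul_cancel_left])
        rw [← hsup] at hc
        obtain ⟨b', hb', t, ht, rfl⟩ := (mem_sup_of_le_normalizer hn).1 hc
        obtain ⟨j, rfl⟩ := (isOfFinOrder_of_finite a).mem_powers_iff_mem_zpowers.2 ht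
        exact ⟨b', hb', j, rfl⟩
      -- `a ^ j` translates `χ` as an element of `R` does
      set r' := b' * r * b'⁻¹ with hr'
      have hr'R : r' ∈ R := (mem_normalizer_iff.1 (hAR hb'.1) r).1 hr
      set s := r'⁻¹ * r with hs
      have hsR : s ∈ R := mul_mem (inv_mem hr'R) hr
      have hra' : Commute (a ^ j) r' := Commute.pow_left (mem_centralizer_iff.1 (hRa hr'R) a (Set.mem_singleton a)) j
      have huA : a ^ j ∈ A := pow_mem ha j
      have hus : Commute (a ^ j) s := hra'.inv_right.mul_right (hra j)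
      have h1 : ∀ z ∈ Z, χ ((a ^ j)⁻¹ * z * a ^ j) = χ (s⁻¹ * z * s) := by
        intro y hy
        have hz := hZconj r' (hRQ hr'R) y hy
        have h : χ (r⁻¹ * ((b' * a ^ j)⁻¹ * (r' * y * r'⁻¹) * (b' * a ^ j)) * r) =
            χ (r⁻¹ * (r' * y * r'⁻¹) * r) := hfx _ hz
        have e : b' * a ^ j * r = r' * a ^ j * b' := by
          rw [mul_assoc b', (hra j).eq, mul_assoc r', hAc _ huA _ hb'.1, hr']
          group
        have e2 : r⁻¹ * ((b' * a ^ j)⁻¹ * (r' * y * r'⁻¹) * (b' * a ^ j)) * r =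
            b'⁻¹ * ((a ^ j)⁻¹ * y * a ^ j) * b' := by
          calc r⁻¹ * ((b' * a ^ j)⁻¹ * (r' * y * r'⁻¹) * (b' * a ^ j)) * r
              = (b' * a ^ j * r)⁻¹ * (r' * y * r'⁻¹) * (b' * a ^ j * r) := by group
            _ = _ := by rw [e]; group
        rw [e2, hb'.2 _ (hZconj' _ (hAQ huA) y hy)] at h
        rw [h, hs]
        congr 1
        group
      have hpow : ∀ n : ℕ, ∀ z ∈ Z, χ (((a ^ j) ^ n)⁻¹ * z * (a ^ j) ^ n) = χ ((s ^ n)⁻¹ * z * s ^ n) := by
        intro n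
        induction n with
        | zero => simp
        | succ n ih =>
          intro z hz
          have e1 : ((a ^ j) ^ (n + 1))⁻¹ * z * (a ^ j) ^ (n + 1) =
              (a ^ j)⁻¹ * (((a ^ j) ^ n)⁻¹ * z * (a ^ j) ^ n) * a ^ j := by rw [pow_succ]; group
          have hc' : Commute ((a ^ j) ^ n) s := hus.pow_left n
          have e2 : s⁻¹ * (((a ^ j) ^ n)⁻¹ * z * (a ^ j) ^ n) * s =
              ((a ^ j) ^ n)⁻¹ * (s⁻¹ * z * s) * (a ^ j) ^ n := by
            have e : ((a ^ j) ^ n)⁻¹ * s⁻¹ = s⁻¹ * ((a ^ j) ^ n)⁻¹ := hc'.inv_inv.eq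
            calc s⁻¹ * (((a ^ j) ^ n)⁻¹ * z * (a ^ j) ^ n) * s
                = (s⁻¹ * ((a ^ j) ^ n)⁻¹) * z * ((a ^ j) ^ n * s) := by group
              _ = (((a ^ j) ^ n)⁻¹ * s⁻¹) * z * (s * (a ^ j) ^ n) := by rw [e, hc'.eq]
              _ = _ := by group
          rw [e1, h1 _ (hZconj' _ (hAQ (pow_mem huA n)) z hz), e2, ih _ (hZconj' s (hRQ hsR) z hz), pow_succ']
          congr 1
          group
      have hSt : (a ^ j) ^ orderOf s ∈ St := by
        refine ⟨pow_mem huA _, fun z hz => ?_⟩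
        rw [hpow _ z hz, pow_orderOf_eq_one]
        simp
      have hco : (orderOf s).Coprime (orderOf (a ^ j)) := by
        refine (hcop.coprime_dvd_left ?_).coprime_dvd_right (orderOf_dvd_of_pow_eq_one (hA _ huA))
        exact Subgroup.orderOf_dvd_natCard R hsR
      obtain ⟨k, hk⟩ := exists_pow_eq_self_of_coprime hco
      exact hcS (mul_mem hb' (hk ▸ pow_mem hSt k))
  -- the generated invariant subgroup
  let Γ : Set X := {x | ∃ c ∈ A, c ∉ St ∧ ∃ r ∈ R, ∃ y ∈ Q ⊓ centralizer {c}, x = r * y * r⁻¹}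
  set N := Subgroup.closure Γ with hN
  have hNK : N ≤ K := by
    rw [hN, closure_le]
    rintro x ⟨c, hc, hcS, r, hr, y, hy, rfl⟩
    refine ⟨(mem_normalizer_iff.1 (hRQ hr) y).1 hy.1, fun u hu => ?_⟩
    have hu' := htr r⁻¹ (inv_mem (hRQ hr)) u hu
    rw [rho_mul, rho_mul, hmoved c hc _ _ hu' (hR r⁻¹ (inv_mem hr) c hc hcS) y hy.1
      (mem_centralizer_iff.1 hy.2 c (Set.mem_singleton c)), ← rho_mul, mul_inv_cancel, map_one, Module.End.one_apply]
  have hnorm : ∀ g, (g ∈ A ∨ g ∈ R) → ∀ x ∈ Γ, g * x * g⁻¹ ∈ Γ := by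
    rintro g hg x ⟨c, hc, hcS, r, hr, y, hy, rfl⟩
    rcases hg with hg | hg
    · refine ⟨c, hc, hcS, g * r * g⁻¹, (mem_normalizer_iff.1 (hAR hg) r).1 hr, g * y * g⁻¹,
        ⟨(mem_normalizer_iff.1 (hAQ hg) y).1 hy.1, ?_⟩, by group⟩
      have hcy : Commute c y := mem_centralizer_iff.1 hy.2 c (Set.mem_singleton c)
      have hcg : Commute c g := hAc c hc g hg
      refine mem_centralizer_iff.2 ?_
      rintro t rfl
      exact ((hcg.mul_right hcy).mul_right hcg.inv_right).eq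
    · exact ⟨c, hc, hcS, g * r, mul_mem hg hr, y, hy, by group⟩
  have hnormN : ∀ g, (g ∈ A ∨ g ∈ R) → ∀ x ∈ N, g * x * g⁻¹ ∈ N := by
    intro g hg x hx
    induction hx using Subgroup.closure_induction with
    | mem y hy => exact subset_closure (hnorm g hg y hy)
    | one => simp
    | mul y z _ _ hy hz => rw [show g * (y * z) * g⁻¹ = g * y * g⁻¹ * (g * z * g⁻¹) by group]; exact mul_mem hy hz
    | inv y _ hy => rw [show g * y⁻¹ * g⁻¹ = (g * y * g⁻¹)⁻¹ by group]; exact inv_mem hy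
  have hnormN' : ∀ g, (g ∈ A ∨ g ∈ R) → g ∈ normalizer (N : Set X) := fun g hg =>
    mem_normalizer_of_conj_mem (hnormN g hg) fun x hx => by
      simpa using hnormN g⁻¹ (hg.imp (fun h => inv_mem h) fun h => inv_mem h) x hx
  have hKle : K ≤ Q := fun x hx => hx.1
  have hNP : N ≤ Q ⊓ centralizer (R : Set X) := le_inf (hNK.trans hKle)
    (hmin N (lt_of_le_of_ne (hNK.trans hKle) fun h => hKQ (h.ge.trans hNK))
      (fun g hg => hnormN' g (Or.inl hg)) (fun g hg => hnormN' g (Or.inr hg)))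
  set P := Q ⊓ centralizer (R : Set X) with hP
  have hout : ∀ c ∈ A, c ∉ St → Q ⊓ centralizer {c} ≤ P := fun c hc hcS y hy =>
    hNP (subset_closure ⟨c, hc, hcS, 1, one_mem _, y, hy, by group⟩)
  have hin : ∀ c ∈ St, c ≠ 1 → Q ⊓ centralizer {c} = Q ⊓ centralizer {b} := by
    intro c hc hc1
    rw [← centralizer_zpowers c, ← centralizer_zpowers b, hline c hc hc1, hline b hb hb1]
  by_cases haS : a ∈ St
  · refine hne ((hgen P fun c hc hc1 => ?_).trans inf_le_right)
    by_cases hcS : c ∈ St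
    · rw [hin c hcS hc1, ← hin a haS ha1]
      exact le_inf inf_le_left hRQa
    · exact hout c hc hcS
  -- `b` centralises `Q` modulo `P`
  have hD : ⁅Q, Q⁆ ≤ P := by
    have hlt : ⁅Q, Q⁆ < Q := commutator_lt_of_isNilpotent le_rfl hQne le_normalizer
    refine le_inf hlt.le (hmin _ hlt ?_ ?_)
    all_goals
      intro g hg
      rw [← conjMap_eq_self_iff, conjMap, map_commutator]
      congr 1 <;> exact conjMap_eq_self (by first | exact hAQ hg | exact hRQ hg)
  have hPQ : Q ≤ normalizer (P : Set X) := by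
    have h : ∀ g ∈ Q, ∀ y ∈ P, g * y * g⁻¹ ∈ P := fun g hg y hy => by
      rw [show g * y * g⁻¹ = ⁅g, y⁆ * y by rw [commutatorElement_def]; group]
      exact mul_mem (hD (commutator_mem_commutator hg hy.1)) hy
    exact fun g hg => mem_normalizer_of_conj_mem (h g hg) fun y hy => by simpa using h g⁻¹ (inv_mem hg) y hy
  have hQdec : Q ≤ P ⊔ (Q ⊓ centralizer {b}) := hgen _ fun c hc hc1 => by
    by_cases hcS : c ∈ St
    · rw [hin c hcS hc1]; exact le_sup_right
    · exact (hout c hc hcS).trans le_sup_left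
  have hbQ : b ∈ normalizer (Q : Set X) := hAQ hb.1
  have hbR : b ∈ normalizer (R : Set X) := hAR hb.1
  have hbP : b ∈ normalizer (P : Set X) := by
    have h : ∀ g ∈ A, ∀ y ∈ P, g * y * g⁻¹ ∈ P := by
      intro g hg y hy
      refine ⟨(mem_normalizer_iff.1 (hAQ hg) y).1 hy.1, ?_⟩
      refine mem_centralizer_iff.2 ?_
      intro t ht
      have := mem_centralizer_iff.1 hy.2 _ ((mem_normalizer_iff''.1 (hAR hg) t).1 ht)
      calc t * (g * y * g⁻¹) = g * (g⁻¹ * t * g * y) * g⁻¹ := by group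
        _ = g * (y * (g⁻¹ * t * g)) * g⁻¹ := by rw [this]
        _ = _ := by group
    exact mem_normalizer_of_conj_mem (h b hb.1) fun y hy => by simpa using h b⁻¹ (inv_mem hb.1) y hy
  have hbx : ∀ x ∈ Q, b * x * b⁻¹ * x⁻¹ ∈ P := by
    intro x hx
    obtain ⟨u, hu, c, hc, rfl⟩ :=
      (mem_sup_of_le_normalizer ((inf_le_left : Q ⊓ centralizer {b} ≤ Q).trans hPQ)).1 (hQdec hx)
    have hbc : b * c = c * b := mem_centralizer_iff.1 hc.2 b (Set.mem_singleton b)
    have : b * (u * c) * b⁻¹ * (u * c)⁻¹ = b * u * b⁻¹ * u⁻¹ := by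
      calc b * (u * c) * b⁻¹ * (u * c)⁻¹ = b * u * b⁻¹ * (b * c) * b⁻¹ * c⁻¹ * u⁻¹ := by group
        _ = b * u * b⁻¹ * (c * b) * b⁻¹ * c⁻¹ * u⁻¹ := by rw [hbc]
        _ = _ := by group
    rw [this]
    exact mul_mem ((mem_normalizer_iff.1 hbP u).1 hu) (inv_mem hu)
  have hkey : ∀ r ∈ R, ∀ x ∈ Q, x⁻¹ * r * x * r⁻¹ ∈ P := by
    have hPr : ∀ r ∈ R, ∀ y ∈ P, r * y * r⁻¹ = y := fun r hr y hy => by
      rw [mem_centralizer_iff.1 hy.2 r hr, mul_inv_cancel_right]
    -- the commutators with `b` act trivially on `Q` modulo `P`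
    have hT : ∀ r ∈ R, ∀ x ∈ Q, ((b * r * b⁻¹)⁻¹ * r) * x * ((b * r * b⁻¹)⁻¹ * r)⁻¹ * x⁻¹ ∈ P := by
      intro r hr x hx
      set y := r * x * r⁻¹ with hy
      have hyQ : y ∈ Q := (mem_normalizer_iff.1 (hRQ hr) x).1 hx
      -- `w = b x b⁻¹` gives `brb⁻¹ w (brb⁻¹)⁻¹ = b y b⁻¹`
      set d := b * x * b⁻¹ * x⁻¹ with hd
      set e := b * y * b⁻¹ * y⁻¹ with he
      have hdP : d ∈ P := hbx x hx
      have heP : e ∈ P := hbx y hyQ
      set ρ' := b * r * b⁻¹ with hρ'
      have hρ'R : ρ' ∈ R := (mem_normalizer_iff.1 hbR r).1 hr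
      have h1 : ρ' * (d * x) * ρ'⁻¹ = e * y := by rw [hd, he, hρ', hy]; group
      have h2 : ρ' * (d * x) * ρ'⁻¹ = d * (ρ' * x * ρ'⁻¹) := by
        rw [show ρ' * (d * x) * ρ'⁻¹ = ρ' * d * ρ'⁻¹ * (ρ' * x * ρ'⁻¹) by group, hPr ρ' hρ'R d hdP]
      have h3 : y = e⁻¹ * d * (ρ' * x * ρ'⁻¹) := by rw [mul_assoc, ← h2, h1]; group
      have h4 : ρ'⁻¹ * r * x * (ρ'⁻¹ * r)⁻¹ = ρ'⁻¹ * y * ρ' := by rw [hy]; group
      rw [h4, h3]
      have h5 : ρ'⁻¹ * (e⁻¹ * d * (ρ' * x * ρ'⁻¹)) * ρ' * x⁻¹ = ρ'⁻¹ * (e⁻¹ * d) * ρ'⁻¹⁻¹ := by group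
      rw [h5, hPr ρ'⁻¹ (inv_mem hρ'R) _ (mul_mem (inv_mem heP) hdP)]
      exact mul_mem (inv_mem heP) hdP
    intro r hr x hx
    let φ : R → R := fun t => ⟨(b * t * b⁻¹)⁻¹ * t,
      mul_mem (inv_mem ((mem_normalizer_iff.1 hbR t).1 t.2)) t.2⟩
    have hinj : Function.Injective φ := by
      intro t t' h
      have h' : (b * t * b⁻¹)⁻¹ * (t : X) = (b * t' * b⁻¹)⁻¹ * t' := congrArg Subtype.val h
      have hd : b * (t * (t' : X)⁻¹) * b⁻¹ = t * (t' : X)⁻¹ := by
        calc b * (t * (t' : X)⁻¹) * b⁻¹ = (b * t * b⁻¹) * (b * t' * b⁻¹)⁻¹ := by group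
          _ = (b * t * b⁻¹) * ((b * t' * b⁻¹)⁻¹ * t') * (t' : X)⁻¹ := by group
          _ = (b * t * b⁻¹) * ((b * t * b⁻¹)⁻¹ * t) * (t' : X)⁻¹ := by rw [h']
          _ = _ := by group
      have hmem : (t : X) * (t' : X)⁻¹ ∈ R ⊓ centralizer (A : Set X) := by
        refine ⟨(mul_mem t.2 (inv_mem t'.2) : _ ∈ R), ?_⟩
        let C : Subgroup X := centralizer {(t : X) * (t' : X)⁻¹} ⊓ A
        have hC : A ≤ C := by
          refine le_of_two inf_le_right hA hAcard (g := b) ?_ hb1 (c := a) ?_ (fun h => haS (hline b hb hb1 ▸ h))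
          · refine ⟨?_, hb.1⟩
            refine mem_centralizer_iff.2 ?_
            rintro _ rfl
            exact (mul_inv_eq_iff_eq_mul.1 hd).symm
          · refine ⟨?_, ha⟩
            refine mem_centralizer_iff.2 ?_
            rintro _ rfl
            exact (mem_centralizer_iff.1 (hRa (mul_mem t.2 (inv_mem t'.2))) a (Set.mem_singleton a)).symm
        refine mem_centralizer_iff.2 ?_
        intro g hg
        exact (mem_centralizer_iff.1 (hC hg).1 _ (Set.mem_singleton _)).symm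
      rw [hCR, mem_bot, mul_inv_eq_one] at hmem
      exact Subtype.ext hmem
    obtain ⟨t, ht⟩ := (Finite.surjective_of_injective hinj) ⟨r, hr⟩
    have h : r * x * r⁻¹ * x⁻¹ ∈ P := by
      have := hT t t.2 x hx
      rwa [show (b * (t : X) * b⁻¹)⁻¹ * t = r from congrArg Subtype.val ht] at this
    have := (mem_normalizer_iff''.1 (hPQ hx) _).1 h
    rwa [show x⁻¹ * (r * x * r⁻¹ * x⁻¹) * x = x⁻¹ * r * x * r⁻¹ by group] at this
  refine hne fun x hx => centralizes_of_coprime_chain (coprime_of_le inf_le_left hcopRQ) ?_ (fun r hr => hkey r hr x hx)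
  intro r hr
  rw [mem_centralizer_iff]
  intro y hy
  exact (mem_centralizer_iff.1 hy.2 r hr).symm

end Cfsg.Lib.Ward
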