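/-
Ward: a solvable group with a fixed-point-free elementary abelian group of automorphisms of order `p ^ 2`
has nilpotent nilpotent-residual.
-/
import Cfsg.Agent.Ward.Core
import Cfsg.Agent.OddLocal.FittingHall
import Cfsg.Agent.S0033
import Mathlib.GroupTheory.SemidirectProduct
import Mathlib.GroupTheory.Nilpotent
import Mathlib.GroupTheory.Solvable

set_option linter.unusedSectionVars false

namespace Cfsg.Lib.Ward

open Subgroup Cfsg.Lib.LieFpf Cfsg.Lib.Coprime
open scoped TensorProduct commutatorElement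

universe u v

/-! ### From modules over `ℤ` to the core statement -/

theorem core_int {X : Type*} [Group X] [Finite X] {V : Type*} [AddCommGroup V] (ρ : X →* Module.End ℤ V)
    {p q : ℕ} [Fact p.Prime] [Fact q.Prime] (hpq : p ≠ q) {m : ℕ} (hm : ∀ v : V, (m * q) • v = v)
    (A Q R : Subgroup X) [IsMulCommutative A] (hA : ∀ a ∈ A, a ^ p = 1) (hAcard : Nat.card A = p ^ 2)
    (hQ : IsPGroup q Q) (hAQ : A ≤ normalizer (Q : Set X)) (hAR : A ≤ normalizer (R : Set X))
    (hRQ : R ≤ normalizer (Q : Set X)) (hcop : (Nat.card R).Coprime p) (hcopRQ : (Nat.card R).Coprime (Nat.card Q))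
    (hCQ : Q ⊓ centralizer (A : Set X) = ⊥) (hCR : R ⊓ centralizer (A : Set X) = ⊥)
    (hfaith : ∀ x ∈ Q, ρ x = 1 → x = 1)
    (hfix : ∀ c ∈ A, c ≠ 1 → ∀ z ∈ Q, Commute c z → ∀ v : V,
      ρ z (∑ i ∈ Finset.range p, ρ (c ^ i) v) = ∑ i ∈ Finset.range p, ρ (c ^ i) v)
    {a : X} (ha : a ∈ A) (ha1 : a ≠ 1) (hRa : R ≤ centralizer {a}) (hRQa : Q ⊓ centralizer {a} ≤ centralizer (R : Set X))
    (hmin : ∀ T < Q, A ≤ normalizer (T : Set X) → R ≤ normalizer (T : Set X) → T ≤ centralizer (R : Set X)) :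
    Q ≤ centralizer (R : Set X) := by
  have hq := (Fact.out : q.Prime)
  set g := Polynomial.cyclotomic q ℤ with hg
  have hmon : g.Monic := Polynomial.cyclotomic.monic q ℤ
  have hroot : Polynomial.aeval (AdjoinRoot.root g) g = 0 := by rw [AdjoinRoot.aeval_eq, AdjoinRoot.mk_self]
  have hζ : AdjoinRoot.root g ^ q = 1 := by
    obtain ⟨t, ht⟩ := Polynomial.cyclotomic.dvd_X_pow_sub_one q ℤ
    have := congrArg (Polynomial.aeval (AdjoinRoot.root g)) ht
    rw [map_mul, hroot, zero_mul, map_sub, map_pow, Polynomial.aeval_X, map_one, sub_eq_zero] at this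
    exact this
  have hsum : ∑ i ∈ Finset.range q, AdjoinRoot.root g ^ i = 0 := by
    have := hroot
    conv at this => lhs; arg 2; rw [hg, Polynomial.cyclotomic_prime]
    rw [map_sum] at this
    simpa using this
  let φ : AdjoinRoot g →ₗ[ℤ] ℤ := (Polynomial.lcoeff ℤ 0).comp (AdjoinRoot.modByMonicHom hmon)
  have hφ : φ 1 = 1 := by
    have h1 : AdjoinRoot.modByMonicHom hmon 1 = 1 := by
      rw [← map_one (AdjoinRoot.mk g), AdjoinRoot.modByMonicHom_mk hmon, Polynomial.modByMonic_eq_self_iff hmon,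
        Polynomial.degree_one, hg, Polynomial.degree_cyclotomic]
      exact_mod_cast Nat.totient_pos.2 hq.pos
    show Polynomial.coeff (AdjoinRoot.modByMonicHom hmon 1) 0 = 1
    rw [h1, Polynomial.coeff_one_zero]
  let B : X →* Module.End (AdjoinRoot g) (AdjoinRoot g ⊗[ℤ] V) :=
    { toFun := fun x => (ρ x).baseChange (AdjoinRoot g)
      map_one' := by
        rw [map_one]
        ext v
        simp
      map_mul' := fun x y => by
        rw [map_mul]
        ext v
        simp }
  have hB : ∀ (x : X) (r : AdjoinRoot g) (v : V), B x (r ⊗ₜ v) = r ⊗ₜ ρ x v := fun x r v => by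
    show (ρ x).baseChange _ (r ⊗ₜ v) = _
    rw [LinearMap.baseChange_tmul]
  refine core hζ hsum (M := AdjoinRoot g ⊗[ℤ] V) (m := m) ?_ B hpq A Q R hA hAcard hQ hAQ hAR hRQ hcop hcopRQ hCQ hCR
    ?_ ?_ ha ha1 hRa hRQa hmin
  · intro w
    induction w using TensorProduct.induction_on with
    | zero => simp
    | add u v hu hv => rw [smul_add, hu, hv]
    | tmul r v => rw [← TensorProduct.tmul_smul, hm]
  · intro x hx h1
    refine hfaith x hx (LinearMap.ext fun v => ?_)
    have h := congrArg (fun z => TensorProduct.lid ℤ V (φ.rTensor V z))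
      (LinearMap.congr_fun h1 ((1 : AdjoinRoot g) ⊗ₜ v))
    simpa [hB, hφ] using h
  · intro c hc hc1 z hz hcz w
    induction w using TensorProduct.induction_on with
    | zero => simp
    | add u v hu hv => simp only [map_add, Finset.sum_add_distrib, hu, hv]
    | tmul r v => simp only [hB, ← TensorProduct.tmul_sum, hfix c hc hc1 z hz hcz v]

/-! ### The nilpotent residual -/

/-- The nilpotent residual. -/
def res (G : Type*) [Group G] : Subgroup G := ⨅ k, (⊤ : Subgroup G).lowerCentralSeries k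

theorem exists_stationary (G : Type*) [Group G] [Finite G] :
    ∃ k, (⊤ : Subgroup G).lowerCentralSeries k = res G ∧ ∀ j, k ≤ j → (⊤ : Subgroup G).lowerCentralSeries j = res G := by
  obtain ⟨k, hk⟩ := Finite.exists_min fun C : Set.range (fun k => (⊤ : Subgroup G).lowerCentralSeries k) =>
    Nat.card (C : Subgroup G)
  obtain ⟨k, j, rfl⟩ := k
  have hle : ∀ i, (⊤ : Subgroup G).lowerCentralSeries j ≤ (⊤ : Subgroup G).lowerCentralSeries i := by
    intro i
    rcases le_total i j with h | h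
    · exact Subgroup.lowerCentralSeries_antitone _ h
    · exact (Subgroup.eq_of_le_of_card_ge (Subgroup.lowerCentralSeries_antitone _ h) (hk ⟨_, i, rfl⟩)).ge
  refine ⟨j, le_antisymm (le_iInf hle) (iInf_le _ _), fun i hi => le_antisymm ?_ (iInf_le _ _)⟩
  exact (Subgroup.lowerCentralSeries_antitone _ hi).trans (le_iInf hle)

instance res_normal (G : Type*) [Group G] [Finite G] : (res G).Normal := by
  obtain ⟨k, hk, -⟩ := exists_stationary G
  rw [← hk]
  infer_instance

theorem commutator_res (G : Type*) [Group G] [Finite G] : ⁅res G, (⊤ : Subgroup G)⁆ = res G := by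
  obtain ⟨k, hk, hk'⟩ := exists_stationary G
  conv_lhs => rw [← hk]
  exact hk' (k + 1) (Nat.le_succ k)

theorem map_res {G H : Type*} [Group G] [Finite G] [Group H] [Finite H] {f : G →* H} (hf : Function.Surjective f) :
    (res G).map f = res H := by
  obtain ⟨k, -, hk⟩ := exists_stationary G
  obtain ⟨l, -, hl⟩ := exists_stationary H
  rw [← hk _ (le_max_left k l), ← hl _ (le_max_right k l), Subgroup.map_lowerCentralSeries,
    Subgroup.map_top_of_surjective f hf]

/-- The ℤ-linear action of automorphisms. -/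
def toEnd {V : Type*} [CommGroup V] : MulAut V →* Module.End ℤ (Additive V) where
  toFun f := (MonoidHom.toAdditive f.toMonoidHom).toIntLinearMap
  map_one' := rfl
  map_mul' _ _ := rfl

theorem cent_nilpotent {A : Type v} [Group A] [Finite A] (hAc : ∀ a b : A, a * b = b * a) {p : ℕ} [Fact p.Prime]
    (hexp : ∀ a : A, a ^ p = 1) (hcard : Nat.card A = p ^ 2) {G : Type u} [Group G] [Finite G] (φ : A →* MulAut G)
    (hfix : ∀ g, (∀ a, φ a g = g) → g = 1) {a : A} (ha : a ≠ 1) (H : Subgroup G) (hH : ∀ g, g ∈ H ↔ φ a g = g) :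
    Group.IsNilpotent H := by
  have hp := (Fact.out : p.Prime)
  obtain ⟨b, hb⟩ : ∃ b : A, b ∉ zpowers a := by
    by_contra hcon
    push Not at hcon
    have h : zpowers a = ⊤ := eq_top_iff.2 fun x _ => hcon x
    have h1 : Nat.card (zpowers a) = p := by rw [Nat.card_zpowers, orderOf_eq_prime (hexp a) ha]
    rw [h, Subgroup.card_top, hcard] at h1
    have := hp.one_lt
    nlinarith
  have hcl : ∀ c : A, ∀ g ∈ H, φ c g ∈ H := fun c g hg => by
    rw [hH] at hg ⊢
    rw [← MulAut.mul_apply, ← map_mul, hAc a c, map_mul, MulAut.mul_apply, hg]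
  let ψ : H ≃* H :=
    { toFun := fun g => ⟨φ b g, hcl b g g.2⟩
      invFun := fun g => ⟨φ b⁻¹ g, hcl b⁻¹ g g.2⟩
      left_inv := fun g => Subtype.ext (by show φ b⁻¹ (φ b (g : G)) = g; rw [← MulAut.mul_apply, ← map_mul, inv_mul_cancel, map_one]; rfl)
      right_inv := fun g => Subtype.ext (by show φ b (φ b⁻¹ (g : G)) = g; rw [← MulAut.mul_apply, ← map_mul, mul_inv_cancel, map_one]; rfl)
      map_mul' := fun g h => Subtype.ext (map_mul (φ b) (g : G) h) }
  have hψ : ∀ g : H, ψ g = g → g = 1 := by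
    intro g hg
    refine Subtype.ext (hfix g fun c => ?_)
    let F : Subgroup A :=
      { carrier := {c | φ c g = g}
        one_mem' := by show φ 1 (g : G) = g; rw [map_one]; rfl
        mul_mem' := fun {x y} hx hy => by
          show φ (x * y) (g : G) = g
          rw [map_mul, MulAut.mul_apply, show φ y (g : G) = g from hy]; exact hx
        inv_mem' := fun {x} hx => by
          show φ x⁻¹ (g : G) = g
          conv_lhs => rw [← (show φ x (g : G) = g from hx), ← MulAut.mul_apply, ← map_mul, inv_mul_cancel, map_one]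
          rfl }
    haveI : IsMulCommutative (⊤ : Subgroup A) := ⟨⟨fun x y => Subtype.ext (hAc x y)⟩⟩
    have h := le_of_two (A := (⊤ : Subgroup A)) le_top (fun a _ => hexp a) (by rw [Subgroup.card_top, hcard])
      (B := F) (g := a) ((hH g).1 g.2) ha (c := b) (congrArg Subtype.val hg) hb
    exact h (Subgroup.mem_top c)
  have hpow : ∀ (n : ℕ) (g : H), (((ψ : MulAut H) ^ n) g : G) = φ (b ^ n) g := by
    intro n g
    induction n with
    | zero => simp
    | succ n ih =>
      rw [pow_succ', pow_succ', map_mul, MulAut.mul_apply, MulAut.mul_apply, ← ih]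
      rfl
  by_cases h1 : (ψ : MulAut H) = 1
  · haveI : Subsingleton H := ⟨fun x y => by rw [hψ x (by rw [h1]; rfl), hψ y (by rw [h1]; rfl)]⟩
    exact Group.isNilpotent_of_subsingleton
  · refine Cfsg.Agent.S0033.result ψ (fun g hg => hψ g hg) p hp (orderOf_eq_prime ?_ h1)
    refine MulEquiv.ext fun g => Subtype.ext ?_
    rw [hpow, hexp, map_one]
    rfl

/-- The nilpotent residual is nilpotent. -/
theorem residual_nilpotent {A : Type v} [Group A] [Finite A] (hAc : ∀ a b : A, a * b = b * a) {p : ℕ} [Fact p.Prime]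
    (hexp : ∀ a : A, a ^ p = 1) (hcard : Nat.card A = p ^ 2) :
    ∀ (n : ℕ) {G : Type u} [Group G] [Finite G], Nat.card G = n → Group.IsSolvable G → ∀ φ : A →* MulAut G,
      (∀ g, (∀ a, φ a g = g) → g = 1) → Group.IsNilpotent (res G) := by
  intro n
  induction n using Nat.strong_induction_on with
  | _ n ih =>
  intro G _ _ hn hsolv φ hfix
  classical
  have hp := (Fact.out : p.Prime)
  -- the order is prime to `p`
  have hpG : (Nat.card G).Coprime p := by
    letI : MulAction A G := MulAction.compHom G φ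
    have hP : IsPGroup p A := fun a => ⟨1, by rw [pow_one]; exact hexp a⟩
    have hm := hP.card_modEq_card_fixedPoints G
    have hfx : MulAction.fixedPoints A G = {1} := by
      ext g
      rw [Set.mem_singleton_iff, MulAction.mem_fixedPoints]
      exact ⟨fun h => hfix g h, fun h a => by subst h; exact map_one (φ a)⟩
    rw [hfx, Nat.card_coe_set_eq, Set.ncard_singleton] at hm
    refine Nat.Coprime.symm (hp.coprime_iff_not_dvd.2 fun hd => ?_)
    have h0 := (Nat.modEq_zero_iff_dvd.2 hd).symm.trans hm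
    exact hp.not_dvd_one (Nat.modEq_zero_iff_dvd.1 h0.symm)
  haveI : Finite (G ⋊[φ] A) := Finite.of_equiv _ SemidirectProduct.equivProd.symm
  set N := res G with hN
  have hNinv : ∀ a, N.map (φ a).toMonoidHom = N := fun a => map_res (φ a).surjective
  by_cases hN1 : N = ⊥
  · rw [hN1]; exact Group.isNilpotent_of_subsingleton
  -- a minimal invariant normal subgroup inside the residual
  obtain ⟨V, ⟨hVN, hV1, hVn, hVinv⟩, hVmin⟩ := wellFounded_lt.has_min
    {V : Subgroup G | V ≤ N ∧ V ≠ ⊥ ∧ V.Normal ∧ ∀ a, V.map (φ a).toMonoidHom = V}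
    ⟨N, le_rfl, hN1, inferInstance, hNinv⟩
  haveI := hVn
  haveI := hsolv
  haveI : IsMulCommutative V := by
    have hlt : ⁅V, V⁆ < V := by
      haveI : Nontrivial V := (nontrivial_iff_ne_bot V).2 hV1
      have h := Group.IsSolvable.commutator_lt_top_of_nontrivial V
      have h2 : (_root_.commutator V).map V.subtype < (⊤ : Subgroup V).map V.subtype :=
        lt_of_le_of_ne (map_mono h.le) fun e => h.ne (map_injective V.subtype_injective e)
      rwa [_root_.commutator_def, map_commutator, ← MonoidHom.range_eq_map, range_subtype] at h2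
    have hb : ⁅V, V⁆ = ⊥ := by
      by_contra h
      exact hVmin _ ⟨hlt.le.trans hVN, h, inferInstance, fun a => by rw [map_commutator, hVinv a]⟩ hlt
    exact ⟨⟨fun x y => Subtype.ext (commutatorElement_eq_one_iff_mul_comm.1
      (mem_bot.1 (hb ▸ commutator_mem_commutator x.2 y.2)))⟩⟩
  obtain ⟨ℓ, hℓ, hℓd⟩ : ∃ ℓ : ℕ, ℓ.Prime ∧ ℓ ∣ Nat.card V :=
    Nat.exists_prime_and_dvd fun h => hV1 (Subgroup.card_eq_one.1 h)
  haveI : Fact ℓ.Prime := ⟨hℓ⟩
  have hVexp : ∀ v ∈ V, v ^ ℓ = 1 := by
    have hcomm : ∀ x ∈ V, ∀ y ∈ V, Commute x y := fun x hx y hy => setLike_mul_comm hx hy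
    let T : Subgroup G :=
      { carrier := {v | v ∈ V ∧ v ^ ℓ = 1}
        one_mem' := ⟨one_mem _, one_pow _⟩
        mul_mem' := fun hx hy => ⟨mul_mem hx.1 hy.1, by rw [(hcomm _ hx.1 _ hy.1).mul_pow, hx.2, hy.2, one_mul]⟩
        inv_mem' := fun hx => ⟨inv_mem hx.1, by rw [inv_pow, hx.2, inv_one]⟩ }
    have hTn : T.Normal := ⟨fun x hx g => ⟨hVn.conj_mem x hx.1 g, by rw [conj_pow, hx.2]; group⟩⟩
    have hTinv : ∀ a, T.map (φ a).toMonoidHom = T := by
      intro a
      ext x
      constructor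
      · rintro ⟨y, hy, rfl⟩
        exact ⟨(hVinv a).le ⟨y, hy.1, rfl⟩, by rw [← map_pow, hy.2, map_one]⟩
      · intro hx
        obtain ⟨y, hy, rfl⟩ := (hVinv a).ge hx.1
        refine ⟨y, ⟨hy, (φ a).injective ?_⟩, rfl⟩
        rw [map_one]
        simpa using hx.2
    have hT1 : T ≠ ⊥ := by
      intro h
      obtain ⟨v, hv⟩ := exists_prime_orderOf_dvd_card' (G := V) ℓ hℓd
      have hv' : (v : G) ∈ T := ⟨v.2, by rw [← hv]; exact_mod_cast congrArg Subtype.val (pow_orderOf_eq_one v)⟩
      rw [h, mem_bot] at hv'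
      rw [show v = 1 from Subtype.ext hv', orderOf_one] at hv
      exact hℓ.one_lt.ne hv
    have hTV : T ≤ V := fun x hx => hx.1
    rcases hTV.lt_or_eq with h | h
    · exact absurd h (hVmin T ⟨hTV.trans hVN, hT1, hTn, hTinv⟩)
    · exact fun v hv => (h.ge hv).2
  -- induction: the residual is nilpotent modulo `V`
  have hquot : Group.IsNilpotent (N.map (QuotientGroup.mk' V)) := by
    let φ' : A →* MulAut (G ⧸ V) :=
      { toFun := fun a => QuotientGroup.congr V V (φ a) (hVinv a)
        map_one' := by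
          refine MulEquiv.ext fun x => ?_
          induction x using QuotientGroup.induction_on with
          | H g => exact congrArg QuotientGroup.mk (DFunLike.congr_fun (map_one φ) g)
        map_mul' := fun a b => by
          refine MulEquiv.ext fun x => ?_
          induction x using QuotientGroup.induction_on with
          | H g => exact congrArg QuotientGroup.mk (DFunLike.congr_fun (map_mul φ a b) g) }
    rw [map_res (QuotientGroup.mk'_surjective V)]
    refine ih (Nat.card (G ⧸ V)) ?_ rfl inferInstance φ' fun x hx => ?_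
    · rw [← hn, Subgroup.card_eq_card_quotient_mul_card_subgroup V]
      exact lt_mul_of_one_lt_right Nat.card_pos (Finite.one_lt_card_iff_nontrivial.2 ((nontrivial_iff_ne_bot V).2 hV1))
    · -- coprime lifting
      induction x using QuotientGroup.induction_on with
      | H g =>
        let A' : Subgroup (G ⋊[φ] A) := (SemidirectProduct.inr : A →* G ⋊[φ] A).range
        let V' : Subgroup (G ⋊[φ] A) := V.map SemidirectProduct.inl
        have hconj : ∀ (a : A) (t : G), SemidirectProduct.inr a * SemidirectProduct.inl t * (SemidirectProduct.inr a)⁻¹ =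
            (SemidirectProduct.inl (φ a t) : G ⋊[φ] A) := fun a t => by rw [SemidirectProduct.inl_aut, map_inv]
        have hAV : A' ≤ normalizer (V' : Set (G ⋊[φ] A)) := by
          rintro _ ⟨a, rfl⟩
          refine mem_normalizer_of_conj_mem ?_ ?_
          · rintro _ ⟨t, ht, rfl⟩
            exact ⟨φ a t, (hVinv a).le ⟨t, ht, rfl⟩, (hconj a t).symm⟩
          · rintro _ ⟨t, ht, rfl⟩
            refine ⟨φ a⁻¹ t, (hVinv a⁻¹).le ⟨t, ht, rfl⟩, ?_⟩
            rw [← hconj, map_inv, inv_inv]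
        have hc : (Nat.card A').Coprime (Nat.card V') := by
          rw [Nat.card_congr (MonoidHom.ofInjective SemidirectProduct.inr_injective).toEquiv.symm,
            Subgroup.card_map_of_injective SemidirectProduct.inl_injective, hcard]
          exact Nat.Coprime.pow_left 2 (hpG.coprime_dvd_left (Subgroup.card_subgroup_dvd_card V)).symm
        obtain ⟨_, ⟨t, ht, rfl⟩, hcent⟩ := exists_fixed_of_commutator_mem (k := SemidirectProduct.inl g) hAV hc
          (Or.inl (Group.isSolvable_of_comm fun x y => by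
            obtain ⟨_, a, rfl⟩ := x; obtain ⟨_, b, rfl⟩ := y
            exact Subtype.ext (by show SemidirectProduct.inr a * SemidirectProduct.inr b = _; rw [← map_mul, hAc, map_mul]; rfl)))
          (mem_normalizer_of_conj_mem
            (by rintro _ ⟨t, ht, rfl⟩; exact ⟨g * t * g⁻¹, hVn.conj_mem t ht g, by simp⟩)
            (by rintro _ ⟨t, ht, rfl⟩; exact ⟨g⁻¹ * t * g⁻¹⁻¹, hVn.conj_mem t ht g⁻¹, by simp⟩))
          (by
            rintro _ ⟨a, rfl⟩
            rw [hconj, ← map_inv, ← map_mul]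
            refine ⟨φ a g * g⁻¹, ?_, rfl⟩
            have h := hx a
            rw [show φ' a (g : G ⧸ V) = ((φ a g : G) : G ⧸ V) from rfl, QuotientGroup.eq] at h
            have h2 := inv_mem (hVn.conj_mem _ h (φ a g))
            simpa [mul_assoc] using h2)
        have hgt : g * t = 1 := by
          refine hfix _ fun a => SemidirectProduct.inl_injective (φ := φ) ?_
          rw [← hconj]
          have := mem_centralizer_iff.1 hcent (SemidirectProduct.inr a) ⟨a, rfl⟩
          rw [map_mul, this, mul_inv_cancel_right]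
        rw [QuotientGroup.eq_one_iff, eq_inv_of_mul_eq_one_left hgt]
        exact inv_mem ht
  -- the ambient group of operators
  set C := centralizer (V : Set G) with hC
  haveI hCn : C.Normal := inferInstance
  let inlH : G →* G ⋊[φ] A := SemidirectProduct.inl
  let inrH : A →* G ⋊[φ] A := SemidirectProduct.inr
  have hgen : ∀ x : G ⋊[φ] A, x = inlH x.left * inrH x.right := fun x => (SemidirectProduct.inl_left_mul_inr_right x).symm
  have hconj : ∀ (a : A) (t : G), inrH a * inlH t * (inrH a)⁻¹ = inlH (φ a t) :=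
    fun a t => by show _ = SemidirectProduct.inl (φ a t); rw [SemidirectProduct.inl_aut, map_inv]
  have hnormal : ∀ (W : Subgroup G), W.Normal → (∀ a, W.map (φ a).toMonoidHom = W) → (W.map inlH).Normal := by
    intro W hW hWinv
    refine ⟨?_⟩
    rintro _ ⟨t, ht, rfl⟩ x
    refine ⟨x.left * φ x.right t * x.left⁻¹, hW.conj_mem _ ((hWinv _).le ⟨t, ht, rfl⟩) _, ?_⟩
    rw [map_mul, map_mul, map_inv, ← hconj]
    conv_rhs => rw [hgen x]
    group
  have hCinv : ∀ a, C.map (φ a).toMonoidHom = C := by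
    intro a
    apply le_antisymm
    · rintro _ ⟨t, ht, rfl⟩
      refine mem_centralizer_iff.2 fun v hv => ?_
      obtain ⟨w, hw, rfl⟩ := (hVinv a).ge hv
      exact ((map_mul (φ a) w t).symm.trans (congrArg _ (mem_centralizer_iff.1 ht w hw))).trans (map_mul (φ a) t w)
    · intro t ht
      refine ⟨(φ a).symm t, mem_centralizer_iff.2 fun v hv => (φ a).injective ?_, (φ a).apply_symm_apply t⟩
      rw [map_mul, map_mul, MulEquiv.apply_symm_apply]
      exact mem_centralizer_iff.1 ht _ ((hVinv a).le ⟨v, hv, rfl⟩)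
  haveI hK : (C.map inlH).Normal := hnormal C hCn hCinv
  haveI hV' : (V.map inlH).Normal := hnormal V hVn hVinv
  have hVcomm : ∀ x y : V.map inlH, x * y = y * x := by
    rintro ⟨_, s, hs, rfl⟩ ⟨_, t, ht, rfl⟩
    exact Subtype.ext (by show inlH s * inlH t = inlH t * inlH s; rw [← map_mul, setLike_mul_comm hs ht, map_mul])
  letI : CommGroup (V.map inlH) := { mul_comm := hVcomm }
  let π := QuotientGroup.mk' (C.map inlH)
  let μ : (G ⋊[φ] A) ⧸ C.map inlH →* MulAut (V.map inlH) :=
    QuotientGroup.lift _ ((MulAut.conjNormal : (G ⋊[φ] A) →* MulAut (V.map inlH))) (by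
      rintro _ ⟨t, ht, rfl⟩
      refine MonoidHom.mem_ker.2 (MulEquiv.ext fun x => Subtype.ext ?_)
      obtain ⟨_, s, hs, rfl⟩ := x
      show inlH t * inlH s * (inlH t)⁻¹ = inlH s
      rw [← map_mul, ← mem_centralizer_iff.1 ht s hs, map_mul, mul_inv_cancel_right])
  let ρ := toEnd.comp μ
  have hρ : ∀ (x : G ⋊[φ] A) (v : V.map inlH),
      ((Additive.toMul (ρ (π x) (Additive.ofMul v)) : V.map inlH) : G ⋊[φ] A) = x * v * x⁻¹ := fun x v => rfl
  let AX : Subgroup ((G ⋊[φ] A) ⧸ C.map inlH) := (π.comp inrH).range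
  let GX : Subgroup ((G ⋊[φ] A) ⧸ C.map inlH) := (π.comp inlH).range
  let NX : Subgroup ((G ⋊[φ] A) ⧸ C.map inlH) := N.map (π.comp inlH)
  have hAinj : Function.Injective (π.comp inrH) := by
    rw [injective_iff_map_eq_one]
    intro a ha
    obtain ⟨t, -, ht⟩ := (QuotientGroup.eq_one_iff _).1 ha
    have := congrArg SemidirectProduct.right ht
    simpa [inlH, inrH] using this.symm
  have hAXcard : Nat.card AX = p ^ 2 := by
    rw [Nat.card_congr (MonoidHom.ofInjective hAinj).toEquiv.symm, hcard]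
  haveI : IsMulCommutative AX := ⟨⟨fun x y => by
    obtain ⟨_, a, rfl⟩ := x; obtain ⟨_, b, rfl⟩ := y
    exact Subtype.ext (by show π.comp inrH a * π.comp inrH b = _; rw [← map_mul, hAc, map_mul]; rfl)⟩⟩
  have hAXexp : ∀ x ∈ AX, x ^ p = 1 := by
    rintro _ ⟨a, rfl⟩
    rw [← map_pow, hexp, map_one]
  haveI hGXn : GX.Normal := by
    have h : GX = (⊤ : Subgroup G).map (π.comp inlH) := MonoidHom.range_eq_map _
    rw [h, ← Subgroup.map_map]
    haveI := hnormal ⊤ inferInstance fun a => Subgroup.map_top_of_surjective _ (φ a).surjective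
    exact Subgroup.Normal.map inferInstance π (QuotientGroup.mk'_surjective _)
  haveI hNXn : NX.Normal := by
    show (N.map (π.comp inlH)).Normal
    rw [← Subgroup.map_map]
    haveI := hnormal N inferInstance hNinv
    exact Subgroup.Normal.map inferInstance π (QuotientGroup.mk'_surjective _)
  have hGXp : (Nat.card GX).Coprime p :=
    hpG.coprime_dvd_left (Subgroup.card_range_dvd _)
  -- lifting fixed points of `GX`
  have lift : ∀ (B : Subgroup A) (x : (G ⋊[φ] A) ⧸ C.map inlH), x ∈ GX → (∀ b ∈ B, Commute (π (inrH b)) x) →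
      ∃ g : G, (∀ b ∈ B, φ b g = g) ∧ π (inlH g) = x := by
    rintro B _ ⟨g, rfl⟩ hcx
    have hc : (Nat.card (B.map inrH)).Coprime (Nat.card (C.map inlH)) := by
      rw [Subgroup.card_map_of_injective SemidirectProduct.inl_injective]
      refine ((hpG.coprime_dvd_left (Subgroup.card_subgroup_dvd_card C)).symm.pow_left 2).coprime_dvd_left ?_
      rw [Subgroup.card_map_of_injective SemidirectProduct.inr_injective, ← hcard]
      exact Subgroup.card_subgroup_dvd_card B
    obtain ⟨_, ⟨t, ht, rfl⟩, hcent⟩ := exists_fixed_of_commutator_mem (A := B.map inrH) (N := C.map inlH)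
      (k := inlH g) (fun x _ => by rw [normalizer_eq_top]; exact mem_top x) hc
      (Or.inl (Group.isSolvable_of_comm fun x y => by
        obtain ⟨_, a, -, rfl⟩ := x; obtain ⟨_, b, -, rfl⟩ := y
        exact Subtype.ext (by show inrH a * inrH b = inrH b * inrH a; rw [← map_mul, hAc, map_mul])))
      (by rw [normalizer_eq_top]; exact mem_top _)
      (by
        rintro _ ⟨b, hb, rfl⟩
        rw [← QuotientGroup.eq_one_iff]
        show π (inrH b * inlH g * (inrH b)⁻¹ * (inlH g)⁻¹) = 1
        have : π (inrH b) * π (inlH g) = π (inlH g) * π (inrH b) := (hcx b hb).eq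
        simp only [map_mul, map_inv]
        rw [this]
        group)
    refine ⟨g * t, fun b hb => SemidirectProduct.inl_injective (φ := φ) ?_, ?_⟩
    · have := mem_centralizer_iff.1 hcent (inrH b) ⟨b, hb, rfl⟩
      show inlH (φ b (g * t)) = inlH (g * t)
      rw [← hconj, map_mul, this, mul_inv_cancel_right]
    · rw [map_mul, map_mul]
      show π (inlH g) * π (inlH t) = π (inlH g)
      rw [show π (inlH t) = 1 from (QuotientGroup.eq_one_iff _).2 ⟨t, ht, rfl⟩, mul_one]
  have hGXfix : GX ⊓ centralizer (AX : Set ((G ⋊[φ] A) ⧸ C.map inlH)) = ⊥ := by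
    refine (Subgroup.eq_bot_iff_forall _).2 fun x hx => ?_
    obtain ⟨g, hg, rfl⟩ := lift ⊤ x hx.1 fun b _ => mem_centralizer_iff.1 hx.2 _ ⟨b, rfl⟩
    rw [hfix g fun b => hg b (mem_top b), map_one, map_one]
  -- centralisers of the nonidentity operators
  have hlift1 : ∀ c ∈ AX, c ≠ 1 → ∃ (H : Subgroup G) (a : A), Group.IsNilpotent H ∧
      (∀ x ∈ GX, Commute c x → ∃ g ∈ H, π (inlH g) = x) ∧ π (inrH a) = c ∧ (∀ g, g ∈ H ↔ φ a g = g) := by
    rintro _ ⟨a, rfl⟩ hc1
    have ha : a ≠ 1 := fun h => hc1 (by rw [h, map_one])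
    let H : Subgroup G := MonoidHom.eqLocus (φ a).toMonoidHom (MonoidHom.id G)
    refine ⟨H, a, cent_nilpotent hAc hexp hcard φ hfix ha H fun g => Iff.rfl, ?_, rfl, fun g => Iff.rfl⟩
    intro x hx hcx
    obtain ⟨g, hg, rfl⟩ := lift (zpowers a) x hx fun b hb => by
      obtain ⟨k, rfl⟩ := hb
      have : π (inrH (a ^ k)) = (π.comp inrH a) ^ k := by rw [← map_zpow]; rfl
      rw [this]
      exact hcx.zpow_left k
    exact ⟨g, hg a (mem_zpowers a), rfl⟩
  have hcommC : ∀ c ∈ AX, c ≠ 1 → ∀ x ∈ GX, ∀ y ∈ GX, Commute c x → Commute c y →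
      (orderOf x).Coprime (orderOf y) → Commute x y := by
    intro c hc hc1 x hx y hy hcx hcy hcop
    obtain ⟨H, a, hH, hl, -, -⟩ := hlift1 c hc hc1
    obtain ⟨g, hg, rfl⟩ := hl x hx hcx
    obtain ⟨h, hh, rfl⟩ := hl y hy hcy
    let f : H →* (G ⋊[φ] A) ⧸ C.map inlH := (π.comp inlH).comp H.subtype
    haveI : Group.IsNilpotent f.range := Group.nilpotent_of_surjective f.rangeRestrict f.rangeRestrict_surjective
    have := Cfsg.Lib.FittingHall.commute_coprime (K := f.range) (x := ⟨_, ⟨g, hg⟩, rfl⟩) (y := ⟨_, ⟨h, hh⟩, rfl⟩)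
      (by rw [← Subgroup.orderOf_coe, ← Subgroup.orderOf_coe]; exact hcop)
    exact congrArg Subtype.val this
  -- the residual modulo the centraliser is nilpotent, and not an `ℓ`-group unless we are done
  by_cases hNl : IsPGroup ℓ NX
  · -- every Sylow subgroup of `N` is normal
    rw [(Group.isNilpotent_of_finite_tfae (G := N)).out 0 3 rfl rfl]
    intro s _ S
    haveI := hquot
    have hnormQ : ((S : Subgroup N).map (((QuotientGroup.mk' V).comp N.subtype).rangeRestrict)).Normal := by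
      have hs : Function.Surjective ((QuotientGroup.mk' V).comp N.subtype).rangeRestrict :=
        MonoidHom.rangeRestrict_surjective _
      haveI : Group.IsNilpotent ((QuotientGroup.mk' V).comp N.subtype).range := by
        rw [MonoidHom.range_comp, range_subtype]; exact hquot
      exact ((Group.isNilpotent_of_finite_tfae.out 0 3 rfl rfl).mp inferInstance) s ‹_› (S.mapSurjective hs)
    -- conjugates lie in `S V`
    have hsub : ∀ x ∈ (S : Subgroup N), ∀ y : N, ∃ v ∈ V, ∃ u ∈ (S : Subgroup N),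
        ((y * x * y⁻¹ : N) : G) = v * (u : G) := by
      intro x hx y
      obtain ⟨u, hu, he⟩ := hnormQ.conj_mem _ (Subgroup.mem_map_of_mem _ hx)
        (((QuotientGroup.mk' V).comp N.subtype).rangeRestrict y)
      have he' : ((u : G) : G ⧸ V) = (((y * x * y⁻¹ : N) : G) : G ⧸ V) := congrArg Subtype.val he
      rw [QuotientGroup.eq] at he'
      refine ⟨((y * x * y⁻¹ : N) : G) * (u : G)⁻¹, ?_, u, hu, by group⟩
      have := hVn.conj_mem _ he' (u : G)
      simpa [mul_assoc] using this
    refine ⟨fun x hx y => ?_⟩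
    obtain ⟨v, hv, u, hu, e⟩ := hsub x hx y
    by_cases hs : s = ℓ
    · -- `V` lies in the Sylow subgroup
      subst hs
      have hVS : V.subgroupOf N ≤ (S : Subgroup N) := by
        have hVp : IsPGroup s (V.subgroupOf N) := fun t => ⟨1, Subtype.ext (Subtype.ext (by
          simpa using hVexp _ t.2))⟩
        obtain ⟨T, hT⟩ := hVp.exists_le_sylow
        obtain ⟨g, hg⟩ := MulAction.exists_smul_eq N T S
        intro t ht
        rw [← hg, Sylow.coe_subgroup_smul]
        have : g⁻¹ * t * g⁻¹⁻¹ ∈ V.subgroupOf N := (inferInstance : (V.subgroupOf N).Normal).conj_mem t ht g⁻¹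
        exact (Subgroup.mem_smul_pointwise_iff_exists t (MulAut.conj g) _).2 ⟨_, hT this, by simp [mul_assoc]⟩
      have : y * x * y⁻¹ = ⟨v, hVN hv⟩ * u := Subtype.ext e
      rw [this]
      exact mul_mem (hVS hv) hu
    · -- the Sylow subgroup centralises `V`
      have hcv : Commute v (u : G) := by
        obtain ⟨i, hi⟩ := S.2 ⟨u, hu⟩
        obtain ⟨j, hj⟩ := hNl ⟨_, (u : G), u.2, rfl⟩
        have h1 : π (inlH (u : G)) = 1 := by
          have hd1 : orderOf (π (inlH (u : G))) ∣ s ^ i := by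
            refine orderOf_dvd_of_pow_eq_one ?_
            rw [← map_pow, ← map_pow, show (u : G) ^ s ^ i = 1 from
              congrArg (fun t => ((t : N) : G)) (congrArg Subtype.val hi), map_one, map_one]
          have hd2 : orderOf (π (inlH (u : G))) ∣ ℓ ^ j :=
            orderOf_dvd_of_pow_eq_one (congrArg Subtype.val hj)
          exact orderOf_eq_one_iff.1 (Nat.eq_one_of_dvd_coprimes
            (Nat.Coprime.pow i j ((Nat.coprime_primes (Fact.out : s.Prime) hℓ).2 hs)) hd1 hd2)
        obtain ⟨t, ht, hte⟩ := (QuotientGroup.eq_one_iff _).1 h1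
        rw [SemidirectProduct.inl_injective hte] at ht
        exact mem_centralizer_iff.1 ht v hv
      obtain ⟨i, hi⟩ := S.2 ⟨x, hx⟩
      have h1 : ((y * x * y⁻¹ : N) : G) ^ ℓ = ((u ^ ℓ : N) : G) := by
        rw [e, hcv.mul_pow, hVexp v hv, one_mul, Subgroup.coe_pow]
      have h2 : (y * x * y⁻¹) ^ ℓ ∈ (S : Subgroup N) := by
        rw [show (y * x * y⁻¹) ^ ℓ = u ^ ℓ from Subtype.ext (by rw [Subgroup.coe_pow]; exact h1)]
        exact pow_mem hu ℓ
      have hco : ℓ.Coprime (orderOf (y * x * y⁻¹)) := by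
        refine ((Nat.coprime_primes hℓ (Fact.out : s.Prime)).2 (Ne.symm hs)).pow_right i |>.coprime_dvd_right ?_
        refine orderOf_dvd_of_pow_eq_one ?_
        rw [conj_pow, show x ^ s ^ i = 1 from congrArg Subtype.val hi]
        group
      obtain ⟨k, hk⟩ := exists_pow_eq_self_of_coprime hco
      exact hk ▸ pow_mem h2 k
  exfalso
  -- a prime `q` other than `ℓ`
  obtain ⟨q, hq, hqd, hqℓ⟩ : ∃ q : ℕ, q.Prime ∧ q ∣ Nat.card NX ∧ q ≠ ℓ := by
    by_contra hcon
    push Not at hcon
    exact hNl (IsPGroup.of_card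
      (Nat.eq_prime_pow_of_unique_prime_dvd Nat.card_pos.ne' fun {d} hd hdd => hcon d hd hdd))
  haveI : Fact q.Prime := ⟨hq⟩
  have hNG : NX ≤ GX := Subgroup.map_le_range _ _
  have hqp : p ≠ q := by
    rintro rfl
    exact hp.not_dvd_one (Nat.Coprime.gcd_eq_one hGXp ▸ Nat.dvd_gcd (hqd.trans (card_dvd_of_le hNG)) dvd_rfl)
  haveI hNXnil : Group.IsNilpotent NX := by
    let L : G ⧸ V →* (G ⋊[φ] A) ⧸ C.map inlH := QuotientGroup.lift V (π.comp inlH) fun v hv =>
      MonoidHom.mem_ker.2 ((QuotientGroup.eq_one_iff _).2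
        ⟨v, mem_centralizer_iff.2 fun w hw => setLike_mul_comm hw hv, rfl⟩)
    have he : NX = (N.map (QuotientGroup.mk' V)).map L := by
      rw [Subgroup.map_map]; rfl
    rw [he]
    haveI := hquot
    exact Group.nilpotent_of_surjective (L.subgroupMap _) (L.subgroupMap_surjective _)
  obtain ⟨SQ⟩ : Nonempty (Sylow q NX) := inferInstance
  haveI hSQn : (SQ : Subgroup NX).Normal :=
    ((Group.isNilpotent_of_finite_tfae.out 0 3 rfl rfl).mp hNXnil) q ‹_› SQ
  haveI hSQc : (SQ : Subgroup NX).Characteristic := SQ.characteristic_of_normal hSQn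
  set QX := (SQ : Subgroup NX).map NX.subtype with hQX
  haveI hQXn : QX.Normal := inferInstance
  have hQN : QX ≤ NX := map_subtype_le _
  have hQp : IsPGroup q QX := SQ.2.map _
  have hQne : QX ≠ ⊥ := by
    intro h
    rw [hQX, Subgroup.map_eq_bot_iff_of_injective _ NX.subtype_injective] at h
    have h1 : q ∣ Nat.card (SQ : Subgroup NX) := SQ.dvd_card_of_dvd_card hqd
    rw [h, Subgroup.card_bot] at h1
    exact hq.not_dvd_one h1
  have hNcomm : ⁅NX, GX⁆ = NX := by
    have h : GX = (⊤ : Subgroup G).map (π.comp inlH) := MonoidHom.range_eq_map _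
    rw [h, ← map_commutator, commutator_res]
  have hcopA : (Nat.card AX).Coprime (Nat.card GX) := by
    rw [hAXcard]; exact hGXp.symm.pow_left 2
  have hAXsol : Group.IsSolvable AX := Group.isSolvable_of_comm fun a b => mul_comm' a b
  have hAXn : ∀ W : Subgroup ((G ⋊[φ] A) ⧸ C.map inlH), W.Normal → AX ≤ normalizer (W : Set _) :=
    fun W hW x _ => by rw [normalizer_eq_top]; exact mem_top x
  -- a prime `r`
  obtain ⟨r, hr, hrq, RX, hRG, hRp, hAR, hRne⟩ : ∃ (r : ℕ) (_ : r.Prime), r ≠ q ∧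
      ∃ RX : Subgroup ((G ⋊[φ] A) ⧸ C.map inlH), RX ≤ GX ∧ IsPGroup r RX ∧ AX ≤ normalizer (RX : Set _) ∧
        ¬ RX ≤ centralizer (QX : Set _) := by
    by_contra hcon
    push Not at hcon
    obtain ⟨T⟩ : Nonempty (Sylow q GX) := inferInstance
    set TX := (T : Subgroup GX).map GX.subtype with hTX
    have hQT : QX ≤ TX := by
      intro x hx
      have hxG : x ∈ GX := hNG (hQN hx)
      have h1 : QX.subgroupOf GX ≤ (T : Subgroup GX) := by
        have hp1 : IsPGroup q (QX.subgroupOf GX) :=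
          hQp.of_equiv (subgroupOfEquivOfLe (hQN.trans hNG)).symm
        obtain ⟨U, hU⟩ := hp1.exists_le_sylow
        obtain ⟨g, hg⟩ := MulAction.exists_smul_eq GX U T
        intro t ht
        rw [← hg, Sylow.coe_subgroup_smul]
        have hc : g⁻¹ * t * g⁻¹⁻¹ ∈ QX.subgroupOf GX :=
          (inferInstance : (QX.subgroupOf GX).Normal).conj_mem t ht g⁻¹
        exact (Subgroup.mem_smul_pointwise_iff_exists t (MulAut.conj g) _).2 ⟨_, hU hc, by simp [mul_assoc]⟩
      exact ⟨⟨x, hxG⟩, h1 (mem_subgroupOf.2 hx), rfl⟩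
    haveI : Group.IsNilpotent TX := (T.2.map GX.subtype).isNilpotent
    set W := ⁅QX, TX⁆ with hW
    have hWlt : W < QX := commutator_lt_of_isNilpotent hQT hQne (fun x _ => by rw [normalizer_eq_top]; exact mem_top x)
    let HX := (GX ⊓ centralizer (QX : Set _)) ⊔ TX
    have hGH : GX ≤ HX := le_of_forall_sylow fun s hs => by
      haveI := Fact.mk hs
      by_cases hsq : s = q
      · subst hsq; exact ⟨T, le_sup_right⟩
      · obtain ⟨P, hP⟩ := exists_invariant_sylow (hAXn GX hGXn) hcopA (Or.inl hAXsol) s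
        exact ⟨P, (le_inf (map_subtype_le _) (hcon s hs hsq _ (map_subtype_le _) (P.2.map _) hP)).trans le_sup_left⟩
    have hHW : HX ≤ normalizer (W : Set _) := by
      refine sup_le (fun g hg => ?_) (le_normalizer_commutator_right TX QX)
      refine mem_normalizer_of_conj_mem (fun x hx => ?_) fun x hx => ?_
      · rw [← mem_centralizer_iff.1 hg.2 x (hWlt.le hx)]; simpa [mul_assoc] using hx
      · rw [mul_assoc, mem_centralizer_iff.1 hg.2 x (hWlt.le hx)]; simpa [← mul_assoc] using hx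
    have hstep : ∀ g ∈ GX, ∀ u ∈ QX, ⁅u, g⁆ ∈ W := by
      let K : Subgroup ((G ⋊[φ] A) ⧸ C.map inlH) :=
        { carrier := {g | g ∈ normalizer (W : Set ((G ⋊[φ] A) ⧸ C.map inlH)) ∧ ∀ u ∈ QX, ⁅u, g⁆ ∈ W}
          one_mem' := ⟨one_mem _, fun u _ => by rw [commutatorElement_one_right]; exact one_mem _⟩
          mul_mem' := fun {g h} hg hh => ⟨mul_mem hg.1 hh.1, fun u hu => by
            rw [show ⁅u, g * h⁆ = ⁅u, g⁆ * (g * ⁅u, h⁆ * g⁻¹) by simp [commutatorElement_def, mul_assoc]]
            exact mul_mem (hg.2 u hu) ((mem_normalizer_iff.1 hg.1 _).1 (hh.2 u hu))⟩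
          inv_mem' := fun {g} hg => ⟨inv_mem hg.1, fun u hu => by
            rw [show ⁅u, g⁻¹⁆ = g⁻¹ * ⁅u, g⁆⁻¹ * g by simp [commutatorElement_def, mul_assoc]]
            exact (mem_normalizer_iff''.1 hg.1 _).1 (inv_mem (hg.2 u hu))⟩ }
      have hHK : HX ≤ K := sup_le
        (fun g hg => ⟨hHW (mem_sup_left hg), fun u hu => by
          rw [commutatorElement_eq_one_iff_mul_comm.2 (mem_centralizer_iff.1 hg.2 u hu)]; exact one_mem _⟩)
        (fun g hg => ⟨hHW (mem_sup_right hg), fun u hu => commutator_mem_commutator hu hg⟩)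
      exact fun g hg => (hHK (hGH hg)).2
    obtain ⟨M, hM⟩ := Subgroup.exists_right_complement'_of_coprime (N := (SQ : Subgroup NX)) SQ.card_coprime_index
    set MX := M.map NX.subtype with hMX
    have hcardN : Nat.card QX * Nat.card MX = Nat.card NX := by
      rw [hQX, hMX, card_map_of_injective NX.subtype_injective, card_map_of_injective NX.subtype_injective,
        hM.card_mul_card]
    have hcopQM : (Nat.card (SQ : Subgroup NX)).Coprime (Nat.card M) := hM.symm.index_eq_card ▸ SQ.card_coprime_index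
    have hMmem : ∀ x : NX, x ∈ M ↔ x ^ Nat.card M = 1 := by
      intro x
      refine ⟨fun hx => orderOf_dvd_iff_pow_eq_one.1 (Subgroup.orderOf_dvd_natCard M hx), fun hx => ?_⟩
      have hcm : ∀ a ∈ (SQ : Subgroup NX), ∀ b ∈ M, Commute a b := fun a ha b hb =>
        Cfsg.Lib.FittingHall.commute_coprime (hcopQM.coprime_dvd_left (Subgroup.orderOf_dvd_natCard _ ha)
          |>.coprime_dvd_right (Subgroup.orderOf_dvd_natCard _ hb))
      have hxs : x ∈ (SQ : Subgroup NX) ⊔ M := by rw [hM.sup_eq_top]; exact mem_top x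
      obtain ⟨a, ha, b, hb, rfl⟩ := Subgroup.mem_sup_of_normal_left.1 hxs
      have hb1 : b ^ Nat.card M = 1 := orderOf_dvd_iff_pow_eq_one.1 (Subgroup.orderOf_dvd_natCard M hb)
      rw [(hcm a ha b hb).mul_pow, hb1, mul_one] at hx
      have ha1 : a = 1 := orderOf_eq_one_iff.1
        (Nat.eq_one_of_dvd_coprimes hcopQM (Subgroup.orderOf_dvd_natCard _ ha) (orderOf_dvd_of_pow_eq_one hx))
      rw [ha1, one_mul]
      exact hb
    have hMXn : MX.Normal := by
      refine ⟨?_⟩
      rintro _ ⟨x, hx, rfl⟩ g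
      refine ⟨⟨g * x * g⁻¹, hNXn.conj_mem _ x.2 g⟩, (hMmem _).2 (Subtype.ext ?_), rfl⟩
      rw [Subgroup.coe_pow, conj_pow]
      rw [show (x : (G ⋊[φ] A) ⧸ C.map inlH) ^ Nat.card M = 1 from congrArg Subtype.val ((hMmem x).1 hx)]
      simp
    have hle : NX ≤ MX ⊔ W := by
      have hgoal : ⁅NX, GX⁆ ≤ MX ⊔ W := by
        rw [commutator_le]
        intro x hx g hg
        have hxs : (⟨x, hx⟩ : NX) ∈ (SQ : Subgroup NX) ⊔ M := by rw [hM.sup_eq_top]; exact mem_top _
        obtain ⟨a, ha, b, hb, hab⟩ := Subgroup.mem_sup_of_normal_left.1 hxs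
        obtain rfl : (a : (G ⋊[φ] A) ⧸ C.map inlH) * b = x := congrArg Subtype.val hab
        have e : ⁅((a : (G ⋊[φ] A) ⧸ C.map inlH) * b), g⁆ =
            a * ((b : (G ⋊[φ] A) ⧸ C.map inlH) * (g * (b : _)⁻¹ * g⁻¹)) * (a : _)⁻¹ * ⁅(a : (G ⋊[φ] A) ⧸ C.map inlH), g⁆ := by
          simp [commutatorElement_def, mul_assoc]
        rw [e]
        have hbM : (b : (G ⋊[φ] A) ⧸ C.map inlH) ∈ MX := ⟨b, hb, rfl⟩
        exact mul_mem_sup (hMXn.conj_mem _ (mul_mem hbM (hMXn.conj_mem _ (inv_mem hbM) g)) _)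
          (hstep g hg _ ⟨a, ha, rfl⟩)
      rwa [hNcomm] at hgoal
    have h1 := card_sup_mul_card_inf (N := MX) (H := W) (fun x _ => by rw [normalizer_eq_top]; exact mem_top x)
    have h2 : Nat.card ↥(MX ⊔ W) ≤ Nat.card MX * Nat.card W := by
      rw [← h1]; exact Nat.le_mul_of_pos_right _ Nat.card_pos
    have h3 : Nat.card NX ≤ Nat.card ↥(MX ⊔ W) := Nat.le_of_dvd Nat.card_pos (card_dvd_of_le hle)
    have h4 : Nat.card W < Nat.card QX := by
      by_contra h
      exact hWlt.ne (Subgroup.eq_of_le_of_card_ge hWlt.le (by omega))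
    have := Nat.mul_lt_mul_of_pos_left h4 (Nat.card_pos (α := MX))
    rw [mul_comm] at hcardN
    omega
  haveI : Fact r.Prime := ⟨hr⟩
  -- an operator
  obtain ⟨c, hc, hc1, hcne⟩ : ∃ c ∈ AX, c ≠ 1 ∧ ¬ RX ⊓ centralizer {c} ≤ centralizer (QX : Set _) := by
    by_contra hcon
    push Not at hcon
    refine hRne ?_
    have hnc : ¬ IsCyclic AX := by
      intro h
      obtain ⟨g, hg⟩ := h.exists_generator
      have h1 : orderOf g = p ^ 2 := by rw [orderOf_eq_card_of_forall_mem_zpowers hg, hAXcard]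
      have h2 : orderOf g ∣ p := orderOf_dvd_of_pow_eq_one (Subtype.ext (hAXexp g g.2))
      rw [h1] at h2
      have := Nat.le_of_dvd hp.pos h2
      have := hp.one_lt
      nlinarith
    rw [← centralizerJoin_eq hnc hAR (hcopA.coprime_dvd_right (card_dvd_of_le hRG))]
    exact iSup₂_le fun c hc => hcon c hc.1 hc.2
  set R := RX ⊓ centralizer {c} with hR
  have hAR' : AX ≤ normalizer (R : Set _) := by
    have h : ∀ g ∈ AX, ∀ x ∈ R, g * x * g⁻¹ ∈ R := by
      intro g hg x hx
      refine ⟨(mem_normalizer_iff.1 (hAR hg) x).1 hx.1, ?_⟩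
      refine mem_centralizer_iff.2 ?_
      rintro t rfl
      have hcg : Commute t g := setLike_mul_comm hc hg
      exact ((hcg.mul_right (mem_centralizer_iff.1 hx.2 t (Set.mem_singleton t))).mul_right hcg.inv_right).eq
    exact fun g hg => mem_normalizer_of_conj_mem (h g hg) fun x hx => by simpa using h g⁻¹ (inv_mem hg) x hx
  -- a minimal subgroup of `QX`
  obtain ⟨Q, ⟨hQQ, hAQ, hRQ, hQR⟩, hQmin⟩ := wellFounded_lt.has_min
    {T : Subgroup ((G ⋊[φ] A) ⧸ C.map inlH) | T ≤ QX ∧ AX ≤ normalizer (T : Set _) ∧ R ≤ normalizer (T : Set _) ∧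
      ¬ T ≤ centralizer (R : Set _)}
    ⟨QX, le_rfl, hAXn QX hQXn, (fun x _ => by rw [normalizer_eq_top]; exact mem_top x),
      fun h => hcne (le_centralizer_iff.1 h)⟩
  obtain ⟨m, hm⟩ : ∃ m : ℕ, m * q ≡ 1 [MOD ℓ] := by
    refine ⟨((q : ZMod ℓ)⁻¹).val, (ZMod.natCast_eq_natCast_iff _ _ _).1 ?_⟩
    rw [Nat.cast_mul, Nat.cast_one, ZMod.natCast_zmod_val, mul_comm]
    exact ZMod.coe_mul_inv_eq_one q ((Nat.coprime_primes hq hℓ).2 hqℓ)
  have hQG : Q ≤ GX := hQQ.trans (hQN.trans hNG)
  have hRp' : IsPGroup r R := hRp.to_le inf_le_left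
  refine hQR (core_int ρ (m := m) hqp ?_ AX Q R hAXexp hAXcard (hQp.to_le hQQ) hAQ hAR' hRQ ?_ ?_ ?_ ?_ ?_ ?_ hc hc1
    inf_le_right ?_ ?_)
  · intro v
    have h0 : ℓ • v = 0 := by
      refine Additive.toMul.injective (Subtype.ext ?_)
      rw [toMul_nsmul, Subgroup.coe_pow]
      obtain ⟨t, ht, e⟩ := (Additive.toMul v).2
      rw [← e, ← map_pow, hVexp t ht, map_one]
      rfl
    conv_rhs => rw [← one_smul ℕ v]
    exact nsmul_eq_nsmul_iff_modEq.2 (hm.of_dvd (addOrderOf_dvd_of_nsmul_eq_zero h0))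
  · exact hGXp.coprime_dvd_left (card_dvd_of_le (inf_le_left.trans hRG))
  · obtain ⟨i, hi⟩ := IsPGroup.iff_card.1 hRp'
    obtain ⟨j, hj⟩ := IsPGroup.iff_card.1 (hQp.to_le hQQ)
    rw [hi, hj]
    exact Nat.Coprime.pow i j ((Nat.coprime_primes hr hq).2 hrq)
  · exact le_bot_iff.1 ((inf_le_inf_right _ hQG).trans hGXfix.le)
  · exact le_bot_iff.1 ((inf_le_inf_right _ (inf_le_left.trans hRG)).trans hGXfix.le)
  · intro x hx h1
    obtain ⟨g, rfl⟩ := hQG hx
    refine (QuotientGroup.eq_one_iff _).2 ⟨g, mem_centralizer_iff.2 fun v hv => ?_, rfl⟩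
    have h := congrArg (fun e : Module.End ℤ (Additive (V.map inlH)) =>
      ((Additive.toMul (e (Additive.ofMul ⟨inlH v, v, hv, rfl⟩)) : V.map inlH) : G ⋊[φ] A)) h1
    replace h : inlH g * inlH v * (inlH g)⁻¹ = inlH v := (hρ _ _).symm.trans h
    rw [← map_inv, ← map_mul, ← map_mul] at h
    exact (mul_inv_eq_iff_eq_mul.1 (SemidirectProduct.inl_injective h)).symm
  · intro d hd hd1 z hz hdz v
    obtain ⟨H, a, hH, hl, ha, hmem⟩ := hlift1 d hd hd1
    obtain ⟨g, hg, rfl⟩ := hl z (hQG hz) hdz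
    set w := ∑ i ∈ Finset.range p, ρ (d ^ i) v with hw
    have hdw : ρ d w = w := by
      have hdp : d ^ p = 1 := hAXexp d hd
      rw [hw, map_sum]
      simp only [← Module.End.mul_apply, ← map_mul, ← pow_succ']
      have h1 := Finset.sum_range_succ' (fun i => ρ (d ^ i) v) p
      have h2 := Finset.sum_range_succ (fun i => ρ (d ^ i) v) p
      rw [h2, hdp, pow_zero] at h1
      exact (add_right_cancel h1).symm
    obtain ⟨t, ht, hte⟩ := (Additive.toMul w).2
    have htH : t ∈ H := by
      rw [hmem]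
      refine SemidirectProduct.inl_injective (φ := φ) ?_
      show inlH (φ a t) = inlH t
      rw [← hconj, hte, ← hρ, ha]
      show ((Additive.toMul (ρ d w) : V.map inlH) : G ⋊[φ] A) = _
      rw [hdw]
    -- a power of `g` of order prime to `ℓ` with the same image
    set e := ℓ ^ (orderOf g).factorization ℓ with he
    have hg0 : 0 < orderOf g := orderOf_pos g
    have hgo : ¬ ℓ ∣ orderOf (g ^ e) := by
      rw [orderOf_pow_of_dvd (pow_ne_zero _ hℓ.ne_zero) (Nat.ordProj_dvd _ _)]
      exact Nat.not_dvd_ordCompl hℓ hg0.ne'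
    have hz' : IsPGroup q Q := hQp.to_le hQQ
    obtain ⟨i, hi⟩ := hz' ⟨_, hz⟩
    have hzo : e.Coprime (orderOf (π (inlH g))) := by
      refine Nat.Coprime.coprime_dvd_right (orderOf_dvd_of_pow_eq_one (congrArg Subtype.val hi)) ?_
      exact Nat.Coprime.pow _ i ((Nat.coprime_primes hℓ hq).2 hqℓ.symm)
    obtain ⟨k, hk⟩ := exists_pow_eq_self_of_coprime hzo
    haveI := hH
    have hcm : Commute (g ^ e) t := by
      refine congrArg Subtype.val (Cfsg.Lib.FittingHall.commute_coprime (K := H) (x := ⟨g ^ e, pow_mem hg e⟩)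
        (y := ⟨t, htH⟩) ?_)
      rw [← Subgroup.orderOf_coe, ← Subgroup.orderOf_coe]
      exact ((hℓ.coprime_iff_not_dvd.2 hgo).symm).coprime_dvd_right (orderOf_dvd_of_pow_eq_one (hVexp t ht))
    have hcm' : Commute ((g ^ e) ^ k) t := hcm.pow_left k
    rw [← hk, ← map_pow, ← map_pow, ← map_pow, ← map_pow]
    refine Additive.toMul.injective (Subtype.ext ?_)
    refine (hρ (inlH ((g ^ e) ^ k)) (Additive.toMul w)).trans ?_
    rw [← hte, ← map_inv, ← map_mul, ← map_mul, hcm'.eq, mul_inv_cancel_right]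
  · intro x hx
    refine mem_centralizer_iff.2 fun y hy => ?_
    refine (hcommC c hc hc1 x (hQG hx.1) y (hRG hy.1) (mem_centralizer_iff.1 hx.2 c (Set.mem_singleton c))
      (mem_centralizer_iff.1 hy.2 c (Set.mem_singleton c)) ?_).eq.symm
    obtain ⟨i, hi⟩ := IsPGroup.iff_card.1 (hQp.to_le hQQ)
    obtain ⟨j, hj⟩ := IsPGroup.iff_card.1 hRp'
    exact ((Nat.Coprime.pow i j ((Nat.coprime_primes hq hr).2 hrq.symm)).coprime_dvd_left
      (hi ▸ Subgroup.orderOf_dvd_natCard _ hx.1)).coprime_dvd_right (hj ▸ Subgroup.orderOf_dvd_natCard _ hy)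
  · intro T hT hAT hRT
    by_contra hne
    exact hQmin T ⟨hT.le.trans hQQ, hAT, hRT, hne⟩ hT

end Cfsg.Lib.Ward
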